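import Cfsg.Agent.H217.EvenNum

/-!
# The alternating groups with the profile: arithmetic (helper217, S3191)
-/

set_option autoImplicit false

namespace Cfsg.Agent.H217.Ev

open Cfsg Cfsg.Agent.OrdDiv Cfsg.Agent.H217.Pf Subgroup

universe u

/-- the 2-adic valuation of a factorial -/
def vf (m : ℕ) : ℕ := padicValNat 2 m.factorial

theorem vf_succ (m : ℕ) : vf (m + 1) = padicValNat 2 (m + 1) + vf m := by
  unfold vf
  rw [Nat.factorial_succ, padicValNat.mul (by omega) (Nat.factorial_ne_zero _)]

theorem vf_odd {m : ℕ} (hm : ¬ 2 ∣ m + 1) : vf (m + 1) = vf m := by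
  rw [vf_succ, padicValNat.eq_zero_of_not_dvd hm, zero_add]

theorem vf_mono {m k : ℕ} (h : m ≤ k) : vf m ≤ vf k := by
  induction k, h using Nat.le_induction with
  | base => exact le_rfl
  | succ k _ ih => rw [vf_succ]; omega

theorem vf_two (n : ℕ) : vf (4 * n) = vf (2 * n) + 2 * n := by
  unfold vf
  have h1 := padicValNat_factorial_mul (p := 2) (2 * n)
  rw [show 2 * (2 * n) = 4 * n by ring] at h1
  exact h1

theorem two_le {k : ℕ} (hk : 0 < k) : 2 ≤ padicValNat 2 (4 * k) := by
  have h1 : 2 ^ 2 ∣ 4 * k := ⟨k, by ring⟩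
  exact (padicValNat_dvd_iff_le (by omega)).1 h1

/-- **The alternating groups.** -/
theorem alt_deg {n j : ℕ} {N : Type u} [Group N] [Finite N] {t : N} (P : Prof n j N t) (hn : 3 ≤ n)
    {m : ℕ} (hm : 5 ≤ m) (e : N ≃* ↥(alternatingGroup (Fin m))) : j = 0 ∧ (m = 4 * n + 2 ∨ m = 4 * n + 3) := by
  obtain ⟨b, hb, hc⟩ := card_eq P
  have h1 := alt_card hm e
  have hb0 : b ≠ 0 := hb.pos.ne'
  have hw0 : (2 * n).factorial ≠ 0 := Nat.factorial_ne_zero _
  have hv : vf m + j = 1 + vf (4 * n) := by
    have h2 : m.factorial * 2 ^ j = 2 * (2 ^ (2 * n) * (2 * n).factorial * b) := by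
      rw [h1, mul_assoc, hc]; rfl
    have h3 := congrArg (padicValNat 2) h2
    rw [padicValNat.mul (Nat.factorial_ne_zero _) (by positivity), padicValNat.prime_pow,
      padicValNat.mul (by norm_num) (mul_ne_zero (mul_ne_zero (by positivity) hw0) hb0),
      padicValNat.mul (mul_ne_zero (by positivity) hw0) hb0, padicValNat.mul (by positivity) hw0,
      padicValNat.prime_pow, padicValNat_self,
      padicValNat.eq_zero_of_not_dvd (p := 2) (n := b) (by
        rw [← even_iff_two_dvd, Nat.not_even_iff_odd]; exact hb)] at h3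
    have h4 := vf_two n
    unfold vf at h4 ⊢
    omega
  have e1 : vf (4 * n + 1) = vf (4 * n) := vf_odd (by omega)
  have e2 : vf (4 * n + 2) = vf (4 * n) + 1 := by
    rw [vf_succ, e1]
    have : padicValNat 2 (4 * n + 1 + 1) = 1 := by
      have h5 : 4 * n + 1 + 1 = 2 * (2 * n + 1) := by ring
      rw [h5, padicValNat.mul (by norm_num) (by omega), padicValNat_self,
        padicValNat.eq_zero_of_not_dvd (by omega)]
    omega
  have e3 : vf (4 * n + 3) = vf (4 * n) + 1 := by rw [← e2]; exact vf_odd (by omega)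
  have e4 : vf (4 * n) + 3 ≤ vf (4 * n + 4) := by
    rw [vf_succ, e3]
    have := two_le (k := n + 1) (by omega)
    rw [show 4 * (n + 1) = 4 * n + 3 + 1 by ring] at this
    omega
  have e5 : vf (4 * n - 1) + 2 ≤ vf (4 * n) := by
    have h6 := vf_succ (4 * n - 1)
    rw [show 4 * n - 1 + 1 = 4 * n by omega] at h6
    have := two_le (k := n) (by omega)
    omega
  rcases P.hj with hj | hj
  · refine ⟨hj, ?_⟩
    rw [hj] at hv
    by_contra hcon
    rcases Nat.lt_or_ge m (4 * n + 2) with h6 | h6
    · have := vf_mono (m := m) (k := 4 * n + 1) (by omega)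
      omega
    · have := vf_mono (m := 4 * n + 4) (k := m) (by omega)
      omega
  · exfalso
    rw [hj] at hv
    rcases Nat.lt_or_ge m (4 * n) with h6 | h6
    · have := vf_mono (m := m) (k := 4 * n - 1) (by omega)
      omega
    · have := vf_mono (m := 4 * n) (k := m) h6
      omega

end Cfsg.Agent.H217.Ev
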