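import Cfsg.Agent.H217.Prof

/-!
# The profile of the simple normal subgroup: existence (helper217, S3191)
-/

set_option autoImplicit false

namespace Cfsg.Agent.H217.Pf

open Subgroup Cfsg Cfsg.Agent.H217.SP Cfsg.Agent.H217.Red Cfsg.Agent.H217.Act

universe u

/-- the index of `Winf` -/
theorem index_inf {ι : Type*} [Fintype ι] [DecidableEq ι] : (Winf ι).index ∣ 4 := by
  let χ : W ι →* Multiplicative (ZMod 2) × ℤˣ :=
    { toFun := fun w => (Multiplicative.ofAdd (∑ i, w.v i), Equiv.Perm.sign w.s)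
      map_one' := by
        ext1
        · show Multiplicative.ofAdd (∑ i, (0 : ι → ZMod 2) i) = 1
          simp
        · exact Equiv.Perm.sign_one
      map_mul' := by
        intro a b
        ext1
        · show Multiplicative.ofAdd (∑ i, (a.v + b.v ∘ ⇑a.s.symm) i) =
            Multiplicative.ofAdd (∑ i, a.v i) * Multiplicative.ofAdd (∑ i, b.v i)
          rw [sum_add, sum_comp b.v a.s.symm]
          rfl
        · exact Equiv.Perm.sign_mul _ _ }
  have h1 : χ.ker = Winf ι := by
    ext w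
    rw [MonoidHom.mem_ker, mem_Winf, Prod.ext_iff]
    exact Iff.rfl
  rw [← h1, Subgroup.index_ker]
  have h2 := Subgroup.card_subgroup_dvd_card χ.range
  have h3 : Nat.card (Multiplicative (ZMod 2) × ℤˣ) = 4 := by
    rw [Nat.card_prod, Nat.card_eq_fintype_card, Nat.card_eq_fintype_card]
    rfl
  rwa [h3] at h2

section main
variable {G : Type u} [Group G] [Finite G] {ι : Type*} [Fintype ι] [DecidableEq ι] {t : G} {f : G → W ι}

/-- the rank -/
theorem rank_le (h : Sit t f) (S : Sylow 2 G) (hS : (S : Subgroup G) ≤ Ce t) (A : Subgroup G)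
    (hA : ∀ x ∈ A, x * x = 1) : Nat.card A ≤ 2 ^ Fintype.card ι := by
  have hpf : Fact (Nat.Prime 2) := ⟨Nat.prime_two⟩
  have h1 : IsPGroup 2 A := fun x => ⟨1, Subtype.ext (by
    show (x : G) ^ 2 ^ 1 = 1
    rw [pow_one, pow_two]; exact hA x x.2)⟩
  obtain ⟨Q, hQ⟩ := h1.exists_le_sylow
  obtain ⟨g, hg⟩ := MulAction.exists_smul_eq G Q S
  have h2 : A.map (MulAut.conj g).toMonoidHom ≤ (S : Subgroup G) := by
    rw [← hg, Sylow.coe_subgroup_smul]
    rintro _ ⟨x, hx, rfl⟩
    exact ⟨x, hQ hx, rfl⟩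
  set B := A.map (MulAut.conj g).toMonoidHom with hB
  have hBC : B ≤ Ce t := h2.trans hS
  let F : B →* W ι :=
    { toFun := fun b => f b
      map_one' := h.one
      map_mul' := fun a b => h.mul _ (hBC a.2) _ (hBC b.2) }
  have hF : Function.Injective F := by
    rw [injective_iff_map_eq_one]
    intro b hb
    exact Subtype.ext (h.eq_one_of_two (hBC b.2) S.2 (h2 b.2) hb)
  have hBB : ∀ b ∈ B, b * b = 1 := by
    rintro _ ⟨x, hx, rfl⟩
    rw [← map_mul, hA x hx, map_one]
  have h3 := rank_W (F.range) (by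
    rintro _ ⟨b, rfl⟩
    rw [← map_mul]
    have : b * b = 1 := Subtype.ext (hBB b b.2)
    rw [this, map_one])
  have h4 : Nat.card F.range = Nat.card B := Nat.card_congr (MonoidHom.ofInjective hF).toEquiv.symm
  have h5 : Nat.card B = Nat.card A :=
    Nat.card_congr (A.equivMapOfInjective (MulAut.conj g).toMonoidHom (MulAut.conj g).injective).toEquiv.symm
  rw [← h5, ← h4]
  exact h3

/-- **The profile exists.** -/
theorem exists_prof (h : Sit t f) (S : Sylow 2 G) (hS : (S : Subgroup G) ≤ Ce t)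
    (hdvd : Nat.card (Ce t) ∣ 3 * Nat.card (W ι)) (h2 : ∀ φ : G →* ℤˣ, ∀ x, φ x = 1)
    {N : Subgroup G} [hN : N.Normal] (htN : t ∈ N) (hC : centralizer (N : Set G) = ⊥)
    (hs : Group.IsSolvable (G ⧸ N)) (n : ℕ) (hn : Fintype.card ι = 2 * n) :
    ∃ j, Prof n j N ⟨t, htN⟩ ∧ (j = 0 → ¬ 2 ∣ N.index) := by
  have hsix := h.six
  have hpf : Fact (Nat.Prime 2) := ⟨Nat.prime_two⟩
  have hinf := inf_le h hs
  set D : Subgroup N := centralizer ({⟨t, htN⟩} : Set N) with hD
  have memD : ∀ d : N, d ∈ D ↔ (d : G) ∈ Ce t := by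
    intro d
    rw [hD, mem_centralizer_singleton_iff, mem_Ce, Subtype.ext_iff]
    exact Iff.rfl
  -- the homomorphism on `D`
  let F : D →* W ι :=
    { toFun := fun d => f ((d : N) : G)
      map_one' := h.one
      map_mul' := fun a b => h.mul _ ((memD _).1 a.2) _ ((memD _).1 b.2) }
  have hF : ∀ d : D, F d = f ((d : N) : G) := fun _ => rfl
  have hFr : F.range = h.img N := by
    ext w
    constructor
    · rintro ⟨d, rfl⟩
      exact ⟨((d : N) : G), (d : N).2, (memD _).1 d.2, rfl⟩
    · rintro ⟨k, hk, hkC, rfl⟩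
      exact ⟨⟨⟨k, hk⟩, (memD _).2 hkC⟩, rfl⟩
  let F' : ↥(Ce t) →* W ι :=
    { toFun := fun d => f (d : G)
      map_one' := h.one
      map_mul' := fun a b => h.mul _ a.2 _ b.2 }
  have hF's : Function.Surjective F' := by
    intro w
    obtain ⟨g, hg, hgw⟩ := h.surj w
    exact ⟨⟨g, hg⟩, hgw⟩
  -- orders
  have c1 : Nat.card F'.ker * Nat.card (W ι) = Nat.card (Ce t) := by
    have h1 := Subgroup.card_mul_index F'.ker
    rw [Subgroup.index_ker, MonoidHom.range_eq_top.2 hF's, Subgroup.card_top] at h1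
    exact h1
  have hWpos : 0 < Nat.card (W ι) := Nat.card_pos
  have c2 : Nat.card F'.ker ∣ 3 := by
    rw [← c1] at hdvd
    exact Nat.dvd_of_mul_dvd_mul_right hWpos hdvd
  have c3 : Nat.card F.ker ∣ Nat.card F'.ker := by
    let θ : F.ker →* F'.ker :=
      { toFun := fun d => ⟨⟨(((d : D) : N) : G), (memD _).1 (d : D).2⟩, d.2⟩
        map_one' := rfl
        map_mul' := fun _ _ => rfl }
    refine Subgroup.card_dvd_of_injective θ ?_
    intro a b hab
    apply Subtype.ext
    apply Subtype.ext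
    apply Subtype.ext
    exact congrArg (fun x : F'.ker => ((x : ↥(Ce t)) : G)) hab
  have c4 : Nat.card F.ker * Nat.card (h.img N) = Nat.card D := by
    have h1 := Subgroup.card_mul_index F.ker
    rw [Subgroup.index_ker, hFr] at h1
    exact h1
  have c5 : Nat.card F.ker = 1 ∨ Nat.card F.ker = 3 := (Nat.dvd_prime Nat.prime_three).1 (c3.trans c2)
  have c6 : (h.img N).index ∣ 4 := (Subgroup.index_dvd_of_le hinf).trans index_inf
  have c7 : Nat.card (h.img N) * (h.img N).index = Nat.card (W ι) := Subgroup.card_mul_index _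
  -- the index of `C(t)`
  have o1 : ¬ 2 ∣ (Ce t).index := fun hd => Sylow.not_dvd_index S (hd.trans (Subgroup.index_dvd_of_le hS))
  have o2 : ¬ 2 ∣ D.index := by
    have h1 := TwoFusion.TransferIndex.not_dvd_relIndex_inf S N
    intro hd
    apply h1
    have h3 : D.index = (N ⊓ Ce t).relIndex N := by
      have h4 : D = (N ⊓ Ce t).subgroupOf N := by
        ext d
        rw [memD, mem_subgroupOf, mem_inf]
        exact ⟨fun h => ⟨d.2, h⟩, fun h => h.2⟩
      rw [h4]; rfl
    rw [h3] at hd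
    exact hd.trans (Subgroup.relIndex_dvd_of_le_left N (inf_le_inf_left N hS))
  -- the equation
  have c8 : Nat.card (h.img N) * ((Nat.card F'.ker * (Ce t).index) * (h.img N).index) =
      Nat.card (h.img N) * ((Nat.card F.ker * D.index) * N.index) := by
    calc Nat.card (h.img N) * ((Nat.card F'.ker * (Ce t).index) * (h.img N).index)
        = Nat.card F'.ker * (Nat.card (h.img N) * (h.img N).index) * (Ce t).index := by ring
      _ = Nat.card G := by rw [c7, c1, Subgroup.card_mul_index]
      _ = (Nat.card F.ker * Nat.card (h.img N)) * D.index * N.index := by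
        rw [c4, Subgroup.card_mul_index, Subgroup.card_mul_index]
      _ = _ := by ring
  have c9 := Nat.eq_of_mul_eq_mul_left Nat.card_pos c8
  have o3 : Odd (Nat.card F'.ker * (Ce t).index) := by
    refine Nat.odd_mul.2 ⟨?_, ?_⟩
    · rcases (Nat.dvd_prime Nat.prime_three).1 c2 with h1 | h1 <;> rw [h1] <;> decide
    · rwa [← Nat.not_even_iff_odd, even_iff_two_dvd]
  have o4 : Odd (Nat.card F.ker * D.index) := by
    refine Nat.odd_mul.2 ⟨?_, ?_⟩
    · rcases c5 with h1 | h1 <;> rw [h1] <;> decide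
    · rwa [← Nat.not_even_iff_odd, even_iff_two_dvd]
  have hidx : ∃ j, (j = 0 ∨ j = 2) ∧ (h.img N).index = 2 ^ j ∧ (j = 0 → ¬ 2 ∣ N.index) ∧ (j = 2 → 4 ∣ N.index) := by
    generalize Nat.card F'.ker * (Ce t).index = a at c9 o3
    generalize Nat.card F.ker * D.index = b at c9 o4
    have h4c : (h.img N).index = 1 ∨ (h.img N).index = 2 ∨ (h.img N).index = 4 := by
      have h1 : (h.img N).index ∣ 2 ^ 2 := c6
      obtain ⟨k, hk, hk2⟩ := (Nat.dvd_prime_pow Nat.prime_two).1 h1
      interval_cases k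
      · exact Or.inl hk2
      · exact Or.inr (Or.inl hk2)
      · exact Or.inr (Or.inr hk2)
    rcases h4c with h1 | h1 | h1
    · refine ⟨0, Or.inl rfl, h1, fun _ hd => ?_, fun h => absurd h (by norm_num)⟩
      rw [h1, mul_one] at c9
      rw [c9] at o3
      have := (Nat.odd_mul.1 o3).2
      exact (Nat.not_even_iff_odd.2 this) (even_iff_two_dvd.2 hd)
    · exfalso
      rw [h1] at c9
      have hd2 : 2 ∣ N.index := by
        have h3 : 2 ∣ b * N.index := ⟨a, by rw [← c9, mul_comm]⟩
        exact (Nat.Coprime.dvd_of_dvd_mul_left (Nat.coprime_two_left.2 o4) h3)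
      have hd4 : ¬ 4 ∣ N.index := by
        rintro ⟨k, hk⟩
        rw [hk] at c9
        have h3 : a = 2 * (b * k) := by
          have : a * 2 = 2 * (b * k) * 2 := by rw [c9]; ring
          exact Nat.eq_of_mul_eq_mul_right (by norm_num) this
        rw [h3] at o3
        exact (Nat.not_even_iff_odd.2 o3) (even_two_mul _)
      obtain ⟨φ, x, hx⟩ := exists_hom (Q := G ⧸ N) (by rw [← Subgroup.index_eq_card]; exact hd2)
        (by rw [← Subgroup.index_eq_card]; exact hd4)
      obtain ⟨g, rfl⟩ := QuotientGroup.mk'_surjective N x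
      exact hx (h2 (φ.comp (QuotientGroup.mk' N)) g)
    · refine ⟨2, Or.inr rfl, h1, fun h => absurd h (by norm_num), fun _ => ?_⟩
      rw [h1] at c9
      have h3 : 4 ∣ b * N.index := ⟨a, by rw [← c9, mul_comm]⟩
      have h5 : Nat.Coprime 4 b := by
        have : Nat.Coprime (2 ^ 2) b := Nat.Coprime.pow_left 2 (Nat.coprime_two_left.2 o4)
        exact this
      exact Nat.Coprime.dvd_of_dvd_mul_left h5 h3
  obtain ⟨j, hj, hj1, hj2, hj3⟩ := hidx
  -- the solvable normal subgroup
  have hsR : ∀ d : D, d ∈ (SP.prS ι).ker.comap F ↔ (F d).s = 1 := fun d => Iff.rfl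
  have hRsol : Group.IsSolvable ↥((SP.prS ι).ker.comap F) := by
    have hk3 : IsPGroup 3 F.ker := by
      rcases c5 with h1 | h1
      · exact IsPGroup.of_card (n := 0) (by rw [h1, pow_zero])
      · exact IsPGroup.of_card (n := 1) (by rw [h1, pow_one])
    have hp3 : Fact (Nat.Prime 3) := ⟨Nat.prime_three⟩
    have hknil := hk3.isNilpotent
    let F0 : ↥((SP.prS ι).ker.comap F) →* Multiplicative (ι → ZMod 2) :=
      { toFun := fun d => Multiplicative.ofAdd (F d).v
        map_one' := by
          show Multiplicative.ofAdd (F 1).v = 1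
          rw [map_one]; rfl
        map_mul' := by
          intro a b
          show Multiplicative.ofAdd (F (a * b)).v = Multiplicative.ofAdd (F a).v * Multiplicative.ofAdd (F b).v
          rw [map_mul]
          have h1 : (F (a : D)).s = 1 := (hsR _).1 a.2
          rw [eq_E_of_s h1, eq_E_of_s ((hsR _).1 b.2), E_mul]
          rfl }
    have hle : F.ker ≤ (SP.prS ι).ker.comap F := by
      intro d hd
      have h1 : F d = 1 := hd
      rw [hsR, h1]; rfl
    refine Group.isSolvable_of_ker_le_range (Subgroup.inclusion hle) F0 ?_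
    intro d hd
    refine ⟨⟨(d : D), ?_⟩, Subtype.ext rfl⟩
    have h1 : (F (d : D)).v = 0 := hd
    rw [MonoidHom.mem_ker, eq_E_of_s ((hsR _).1 d.2), h1, E_zero]
  refine ⟨j, ⟨?_, ?_, o2, ?_, ?_, ?_, ?_, ?_, hj, ?_⟩, hj2⟩
  · intro h1
    exact h.ne (congrArg Subtype.val h1)
  · exact Subtype.ext h.tt
  · refine ⟨_, c5, ?_⟩
    rw [← hn, ← card_W, ← c7, hj1, ← c4]
    ring
  · refine no_comp ((SP.prS ι).ker.comap F) inferInstance hRsol ?_
    intro d hd
    rw [hsR]
    apply cent_even (by omega)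
    intro w hw
    obtain ⟨r, hr, hrC, hrw⟩ := hinf (E_mem_Winf hw)
    have h1 : (⟨⟨r, hr⟩, (memD _).2 hrC⟩ : D) ∈ (SP.prS ι).ker.comap F := by
      rw [hsR]
      show (f r).s = 1
      rw [hrw]; rfl
    have h3 := congrArg F (hd _ h1)
    rw [map_mul, map_mul] at h3
    have h4 : F ⟨⟨r, hr⟩, (memD _).2 hrC⟩ = E w := hrw
    rwa [h4] at h3
  · intro hsD
    refine not_solvable (by omega) hinf ?_
    rw [← hFr]
    exact Group.isSolvable_of_surjective (f := F.rangeRestrict) F.rangeRestrict_surjective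
  · intro R hR hR2 x hx y hy
    have h1 : ∀ w ∈ Winf ι, ∀ k ∈ R.map F, w * k * w⁻¹ ∈ R.map F := by
      rintro w hw _ ⟨k, hk, rfl⟩
      have h3 : w ∈ F.range := by rw [hFr]; exact hinf hw
      obtain ⟨d, rfl⟩ := h3
      exact ⟨d * k * d⁻¹, hR.conj_mem k hk d, by rw [map_mul, map_mul, map_inv]⟩
    have hRm := hR2.map F
    rcases cases h1 (by omega) with h3 | h3
    · -- the commutator
      have h4 : F (x * y * (y * x)⁻¹) = 1 := by
        rw [map_mul, map_inv, map_mul, map_mul, eq_E_of_s (h3 _ ⟨x, hx, rfl⟩), eq_E_of_s (h3 _ ⟨y, hy, rfl⟩),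
          E_mul, E_mul, add_comm, mul_inv_cancel]
      have h5 : x * y * (y * x)⁻¹ ∈ R := mul_mem (mul_mem hx hy) (inv_mem (mul_mem hy hx))
      have h6 : x * y * (y * x)⁻¹ = 1 := by
        have h7 := h.eq_one_of_two (g := (((x * y * (y * x)⁻¹ : D) : N) : G)) ((memD _).1 (x * y * (y * x)⁻¹).2)
          (S := R.map (N.subtype.comp D.subtype)) (hR2.map _) ⟨_, h5, rfl⟩ h4
        exact Subtype.ext (Subtype.ext h7)
      exact mul_inv_eq_one.1 h6
    · exfalso
      refine not_solvable (by omega) h3 ?_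
      have h4 := hRm.isNilpotent
      infer_instance
  · intro A hA
    rw [← hn]
    have h3 := rank_le h S hS (A.map N.subtype) (by
      rintro _ ⟨x, hx, rfl⟩
      rw [← map_mul, hA x hx, map_one])
    rwa [Nat.card_congr (A.equivMapOfInjective N.subtype N.subtype_injective).toEquiv]
  · intro hj4
    let ψ : G →* Cfsg.Out N := (QuotientGroup.mk' (Cfsg.Inn N)).comp (MulAut.conjNormal : G →* MulAut N)
    have hker : ψ.ker = N := by
      ext a
      constructor
      · intro ha
        have h1 : (MulAut.conjNormal a : MulAut N) ∈ (MulAut.conj : ↥N →* MulAut ↥N).range :=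
          (QuotientGroup.eq_one_iff _).1 ha
        obtain ⟨s, hs'⟩ := h1
        have h3 : (s : G)⁻¹ * a ∈ centralizer (N : Set G) := by
          rw [mem_centralizer_iff]
          intro x hx
          have h3 := congrArg (fun f : MulAut ↥N => ((f ⟨x, hx⟩ : ↥N) : G)) hs'
          simp only [MulAut.conj_apply, Subgroup.coe_mul, Subgroup.coe_inv, MulAut.conjNormal_apply] at h3
          have h4 : a * x = s * x * (s : G)⁻¹ * a := by rw [h3]; group
          calc x * ((s : G)⁻¹ * a) = (s : G)⁻¹ * (s * x * (s : G)⁻¹ * a) := by group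
            _ = (s : G)⁻¹ * (a * x) := by rw [h4]
            _ = (s : G)⁻¹ * a * x := by group
        rw [hC, mem_bot, inv_mul_eq_one] at h3
        rw [← h3]
        exact s.2
      · intro ha
        refine (QuotientGroup.eq_one_iff _).2 ⟨⟨a, ha⟩, ?_⟩
        ext x
        simp [MulAut.conj_apply, MulAut.conjNormal_apply]
    refine ⟨ψ.range, ?_, ?_⟩
    · rw [← Subgroup.index_ker, hker]
      exact hj3 hj4
    · rintro φ ⟨_, g, rfl⟩
      exact h2 (φ.comp ψ.rangeRestrict) g

end main

end Cfsg.Agent.H217.Pf
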