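import Cfsg.Agent.H217.Elim
import Cfsg.Agent.H217.Quot
import Cfsg.Agent.H217.ProfMain
import Cfsg.Agent.Schreier.Cases
import Cfsg.Agent.S2119

/-!
# `G ⧸ O(G)` is alternating, for a centralizer `2 wr S_{2n}`, `n ≥ 3` (helper217)
-/

set_option autoImplicit false

namespace Cfsg.Agent.H217.Core

open Cfsg Subgroup Cfsg.Agent.H217.SP Cfsg.Agent.H217.Red Cfsg.Agent.H217.Pf Cfsg.Agent.H217.Quot
open Cfsg.Agent.LFourA.Quot

universe u

/-- the index of a normal subgroup with trivial centralizer divides the order of its outer automorphism group -/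
theorem index_dvd_out {G : Type*} [Group G] (N : Subgroup G) [N.Normal] (hC : centralizer (N : Set G) = ⊥) :
    N.index ∣ Nat.card (Cfsg.Out N) := by
  let ψ : G →* Cfsg.Out N := (QuotientGroup.mk' (Cfsg.Inn N)).comp (MulAut.conjNormal : G →* MulAut N)
  have hker : ψ.ker = N := by
    ext a
    constructor
    · intro ha
      have h1 : (MulAut.conjNormal a : MulAut N) ∈ (MulAut.conj : ↥N →* MulAut ↥N).range :=
        (QuotientGroup.eq_one_iff _).1 ha
      obtain ⟨s, hs'⟩ := h1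
      have h3 : (s : G)⁻¹ * a ∈ centralizer (N : Set G) := by
        rw [mem_centralizer_iff]
        intro x hx
        have h3 := congrArg (fun f : MulAut ↥N => ((f ⟨x, hx⟩ : ↥N) : G)) hs'
        simp only [MulAut.conj_apply, Subgroup.coe_mul, Subgroup.coe_inv, MulAut.conjNormal_apply] at h3
        have h4 : a * x = s * x * (s : G)⁻¹ * a := by rw [h3]; group
        calc x * ((s : G)⁻¹ * a) = (s : G)⁻¹ * (s * x * (s : G)⁻¹ * a) := by group
          _ = (s : G)⁻¹ * (a * x) := by rw [h4]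
          _ = (s : G)⁻¹ * a * x := by group
      rw [hC, mem_bot, inv_mul_eq_one] at h3
      rw [← h3]
      exact s.2
    · intro ha
      refine (QuotientGroup.eq_one_iff _).2 ⟨⟨a, ha⟩, ?_⟩
      ext x
      simp [MulAut.conj_apply, MulAut.conjNormal_apply]
  have h1 : N.index = Nat.card ψ.range := by
    rw [← Subgroup.index_ker, hker]
  rw [h1]
  exact card_subgroup_dvd_card _

/-- `|Out A_m| = 2` -/
theorem card_out_alt {S : Type*} [Group S] [Finite S] [IsSimpleGroup S] (hna : ¬ IsMulCommutative S) {m : ℕ}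
    (hm : 7 ≤ m) (e : S ≃* ↥(alternatingGroup (Fin m))) : Nat.card (Cfsg.Out S) = 2 := by
  have h1 : Nat.card (MulAut (alternatingGroup (Fin m))) = Nat.card (Equiv.Perm (Fin m)) :=
    (Nat.card_congr (Equiv.ofBijective _ (S2119.result m (by omega) (by omega)))).symm
  have h2 : Nontrivial (Fin m) := Fin.nontrivial_iff_two_le.2 (by omega)
  have h3 : 2 * Nat.card (alternatingGroup (Fin m)) = Nat.card (Equiv.Perm (Fin m)) := by
    rw [Nat.card_eq_fintype_card, Nat.card_eq_fintype_card]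
    exact two_mul_card_alternatingGroup
  exact H489.card_out_of hna e (by rw [h1, h3])

/-- **The case `O(G) = 1`.** -/
theorem alt_of_sit (T : OrdDiv.OrderTable.{u})
    (hkn : ∀ (X : Type u) [Group X] [Finite X] [IsSimpleGroup X], IsKnownSimple' X)
    (hsch : Schreier.Cases.SchFor.{u} @IsKnownSimple') {X : Type u} [Group X] [Finite X]
    {ι : Type*} [Fintype ι] [DecidableEq ι] {t : X} {f : X → W ι} (h : Sit t f) (S : Sylow 2 X)
    (hS : (S : Subgroup X) ≤ Ce t) (hdvd : Nat.card (Ce t) ∣ 3 * Nat.card (W ι)) (hO : Cfsg.pPrimeCore 2 X = ⊥)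
    (h2 : ∀ φ : X →* ℤˣ, ∀ x, φ x = 1) {n : ℕ} (hn3 : 3 ≤ n) (hn : Fintype.card ι = 2 * n) :
    ∃ m, (m = 4 * n + 2 ∨ m = 4 * n + 3) ∧ Nonempty (X ≃* ↥(alternatingGroup (Fin m))) := by
  obtain ⟨N, hN, hNs, hna, htN, hC⟩ := h.simple S hS hO h2
  have hna' : ¬ IsMulCommutative N := fun hc => hna fun a b => hc.is_comm.comm a b
  have hsol : Group.IsSolvable (X ⧸ N) := H403.solvable_quotient N (hsch N hna' (hkn N)) hC
  obtain ⟨j, P, hj⟩ := exists_prof h S hS hdvd h2 htN hC hsol n hn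
  obtain ⟨hj0, m, hm, ⟨e⟩⟩ := Ev.prof_alt T P hn3 hna' (hkn N)
  have h3 := index_dvd_out N hC
  rw [card_out_alt hna' (by omega) e] at h3
  have h4 : N.index = 1 := by
    rcases (Nat.dvd_prime Nat.prime_two).1 h3 with h5 | h5
    · exact h5
    · exfalso
      apply hj hj0
      rw [h5]
  rw [Subgroup.index_eq_one] at h4
  subst h4
  exact ⟨m, hm, ⟨Subgroup.topEquiv.symm.trans e⟩⟩

/-- **The quotient by the core.** -/
theorem alt_of_sit_quot (T : OrdDiv.OrderTable.{u})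
    (hkn : ∀ (X : Type u) [Group X] [Finite X] [IsSimpleGroup X], IsKnownSimple' X)
    (hsch : Schreier.Cases.SchFor.{u} @IsKnownSimple') {G : Type u} [Group G] [Finite G]
    {ι : Type*} [Fintype ι] [DecidableEq ι] {t : G} {f : G → W ι} (h : Sit t f) (S : Sylow 2 G)
    (hS : (S : Subgroup G) ≤ Ce t) (htS : t ∈ (S : Subgroup G)) (hdvd : Nat.card (Ce t) ∣ 3 * Nat.card (W ι))
    (h2 : ∀ φ : G →* ℤˣ, ∀ x, φ x = 1) {n : ℕ} (hn3 : 3 ≤ n) (hn : Fintype.card ι = 2 * n) :
    ∃ m, (m = 4 * n + 2 ∨ m = 4 * n + 3) ∧ Nonempty (G ⧸ Cfsg.oddCore G ≃* ↥(alternatingGroup (Fin m))) := by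
  obtain ⟨⟨f', h'⟩, hdvd'⟩ := sit_quot h S htS hdvd
  refine alt_of_sit T hkn hsch h' (syl S) ?_ hdvd' oddCore_quot (hom_quot h2) hn3 hn
  rw [syl_coe]
  rintro _ ⟨s, hs, rfl⟩
  have h1 := (mem_Ce).1 (hS hs)
  rw [mem_Ce, ← map_mul, h1, map_mul]

end Cfsg.Agent.H217.Core
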