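import Cfsg.Agent.H217.KillOut
import Cfsg.Agent.H217.SporNum
import Cfsg.Agent.S2076
import Cfsg.Agent.LThreeCo1Suz.Full

/-!
# The survivors `Ly` and `Suz` with `j = 2` (helper217)
-/

set_option autoImplicit false

namespace Cfsg.Agent.H217.Ev

open Cfsg Cfsg.Agent.OrdDiv Cfsg.Agent.H217.Pf Subgroup

universe u

variable {N : Type u} [Group N] [Finite N] {t : N}

theorem not_ly {n : ℕ} (P : Prof n 2 N t) (h : Real .ly N) : False := by
  obtain ⟨e⟩ := h
  have h1 := four_lt P
  rw [H55.OutGen.card_out_congr e, Cfsg.Agent.S2076.result] at h1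
  omega

theorem not_suz {n : ℕ} (P : Prof n 2 N t) (h : Real .suz N) : False := by
  have h1 := four_lt P
  rw [H55.OutGen.card_out_eq_index] at h1
  rcases Cfsg.Agent.LThreeCo1Suz.Full.index_of_isoSuz h with h2 | h2 <;> rw [h2] at h1 <;> omega

end Cfsg.Agent.H217.Ev
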