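import Cfsg.Agent.H217.KillSpor
import Cfsg.Agent.CTwoTab.Monster

/-!
# The Monster (helper217)
-/

set_option autoImplicit false

namespace Cfsg.Agent.H217.Ev

open Cfsg Cfsg.Agent.OrdDiv Cfsg.Agent.H217.Pf Subgroup Cfsg.Agent.MonsterX.Model Cfsg.Agent.MonsterX.MainPack

universe u

variable {N : Type u} [Group N] [Finite N] {t : N}

theorem not_m {n j : ℕ} (P : Prof n j N t) (h : Real .m N) : False := by
  obtain ⟨e⟩ := h
  obtain ⟨f⟩ := Cfsg.Agent.MonsterP.Equiv.equiv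
  have A := Cfsg.Agent.MonsterU.Uncond.all
  refine not_large_of P (e.trans f) (Cfsg.Agent.MonsterU.ModelChart.large A.hG A.hR A.hL A.hO A.hT) ?_
  have h1 : Nat.card (Cfsg.Agent.MonsterX.InstData.M.Q.subgroupOf Cfsg.Agent.MonsterX.InstData.M.G) = 2 ^ 25 := by
    rw [← A.hG.Q_card]
    exact Nat.card_congr (Subgroup.subgroupOfEquivOfLe (A.hG.Q_le.trans
      Cfsg.Agent.MonsterX.MainBasic.C_le)).toEquiv
  rw [h1]
  norm_num

end Cfsg.Agent.H217.Ev
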