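import Cfsg.Agent.H217.EvenNum
import Cfsg.Agent.RankThreeTwo.Lin
import Cfsg.Agent.RankThreeTwo.Uni

/-!
# The survivors `L₆(2)`, `U₆(2)`, `S₆(4)`: the 2-rank is too large (helper217)
-/

set_option autoImplicit false

namespace Cfsg.Agent.H217.Ev

open Cfsg Cfsg.Agent.OrdDiv Cfsg.Agent.H217.Pf Subgroup Matrix Cfsg.Agent.RankThreeTwo.Base

universe u

/-- the profile bounds the 2-rank -/
theorem rank_false {n j : ℕ} {N : Type u} [Group N] {t : N} (P : Prof n j N t) {k : ℕ} (hk : 2 * n < k)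
    (h : PRankAtLeast 2 k N) : False := by
  obtain ⟨A, -, hp, hc⟩ := h
  have h1 := P.rank A fun x hx => by
    rw [← pow_two]
    exact hp x hx
  have h2 := hc.trans h1
  have h3 := (Nat.pow_le_pow_iff_right (by norm_num)).1 h2
  omega

section Lin

variable {F : Type*} [Field F] [Fintype F]

/-- `[1 B; 0 1]` -/
def up (m : ℕ) (B : Matrix (Fin m) (Fin m) F) : Matrix.SpecialLinearGroup (Fin (m + m)) F :=
  ⟨(fromBlocks 1 B 0 1).reindex finSumFinEquiv finSumFinEquiv, by
    rw [det_reindex_self, det_fromBlocks_zero₂₁, det_one, mul_one]⟩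

omit [Fintype F] in
theorem coe_up (m : ℕ) (B : Matrix (Fin m) (Fin m) F) :
    ((up m B : Matrix.SpecialLinearGroup (Fin (m + m)) F) : Matrix (Fin (m + m)) (Fin (m + m)) F) =
      (fromBlocks 1 B 0 1).reindex finSumFinEquiv finSumFinEquiv := rfl

omit [Fintype F] in
theorem up_add (m : ℕ) (B B' : Matrix (Fin m) (Fin m) F) : up m (B + B') = up m B * up m B' := by
  apply Subtype.ext
  rw [Matrix.SpecialLinearGroup.coe_mul, coe_up, coe_up, coe_up, reindex_apply, reindex_apply, reindex_apply,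
    submatrix_mul_equiv, fromBlocks_multiply]
  simp only [one_mul, mul_one, mul_zero, add_zero, zero_mul, zero_add]
  rw [add_comm B B']

/-- **`PSL` of even dimension** -/
theorem rank_psl [CharP F 2] (m : ℕ) {k : ℕ} (hk : 2 ^ k ≤ Fintype.card F ^ (m * m)) :
    PRankAtLeast 2 k (Matrix.ProjectiveSpecialLinearGroup (Fin (m + m)) F) := by
  classical
  refine of_quot (V := Matrix (Fin m) (Fin m) F) (fun v => Matrix.ext fun i j => add_self _) ?_ _ (up m) (up_add m)
    fun v hv => ?_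
  · have h1 : Nat.card (Matrix (Fin m) (Fin m) F) = Fintype.card F ^ (m * m) := by
      change Nat.card (Fin m → Fin m → F) = _
      rw [Nat.card_fun, Nat.card_fun, Nat.card_eq_fintype_card, Nat.card_eq_fintype_card, Fintype.card_fin, ← pow_mul]
    rw [h1]
    exact hk
  · rw [Matrix.SpecialLinearGroup.mem_center_iff] at hv
    obtain ⟨r, -, hr⟩ := hv
    ext i j
    have h1 := congrFun (congrFun hr (finSumFinEquiv (Sum.inl i))) (finSumFinEquiv (Sum.inr j))
    rw [coe_up, reindex_apply, submatrix_apply, Equiv.symm_apply_apply, Equiv.symm_apply_apply, fromBlocks_apply₁₂,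
      scalar_apply, diagonal_apply_ne] at h1
    · rw [← h1]
      rfl
    · intro h2
      have h3 := finSumFinEquiv.injective h2
      exact absurd h3 (by simp)

/-- `[1 B; 0 1]`, `B` symmetric -/
def sym (m : ℕ) (v : Sym2 (Fin m) → F) : Matrix (Fin m) (Fin m) F := fun i j => v s(i, j)

omit [Fintype F] in
theorem sym_t (m : ℕ) (v : Sym2 (Fin m) → F) : (sym m v)ᵀ = sym m v := by
  ext i j
  change v s(j, i) = v s(i, j)
  rw [Sym2.eq_swap]

def usy (m : ℕ) [CharP F 2] (v : Sym2 (Fin m) → F) : Matrix.symplecticGroup (Fin m) F :=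
  ⟨fromBlocks 1 (sym m v) 0 1, by
    rw [SymplecticGroup.mem_iff, J, fromBlocks_transpose, fromBlocks_multiply, fromBlocks_multiply, sym_t]
    simp⟩

/-- **PSp.** -/
theorem rank_psp [CharP F 2] (m : ℕ) {k : ℕ} (hk : 2 ^ k ≤ Fintype.card F ^ Fintype.card (Sym2 (Fin m))) :
    PRankAtLeast 2 k (PSp m F) := by
  refine of_quot (V := Sym2 (Fin m) → F) (fun v => funext fun i => add_self _) ?_ _ (usy m) (fun v w => ?_)
    fun v hv => ?_
  · rw [Nat.card_eq_fintype_card, Fintype.card_fun]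
    exact hk
  · apply Subtype.ext
    change fromBlocks 1 (sym m (v + w)) 0 1 = fromBlocks 1 (sym m v) 0 1 * fromBlocks 1 (sym m w) 0 1
    rw [fromBlocks_multiply]
    simp only [one_mul, mul_one, mul_zero, add_zero, zero_mul, zero_add, fromBlocks_inj, true_and, and_true]
    rw [add_comm]
    rfl
  · have h1 := Subgroup.mem_center_iff.1 hv (SymplecticGroup.symJ (Fin m) F)
    have h2 : (J (Fin m) F) * fromBlocks 1 (sym m v) 0 1 = fromBlocks 1 (sym m v) 0 1 * J (Fin m) F :=
      congrArg Subtype.val h1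
    rw [J, fromBlocks_multiply, fromBlocks_multiply, fromBlocks_inj] at h2
    have h3 := h2.1
    simp only [mul_zero, add_zero, mul_one, zero_add] at h3
    funext i
    induction i using Sym2.ind with
    | _ i j =>
      have h4 := congrFun (congrFun h3 i) j
      exact h4.symm

end Lin

section Uni

open Cfsg.Agent.RankThreeTwo.Uni Cfsg.Agent.LieClassical.HermBasic Cfsg.Agent.LieClassical.SUBasic

variable (F : Type*) [Field F]

/-- the three isotropic vectors -/
def Wm : Matrix (Fin 6) (Fin 3) F := fun i k => if (i : ℕ) / 2 = k then 1 else 0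

variable {F}

/-- Hermitian `3 × 3` matrices over the field of four elements -/
def hm (a x : Fin 3 → F) : Matrix (Fin 3) (Fin 3) F :=
  !![a 0, x 0, x 1; x 0 ^ 2, a 1, x 2; x 1 ^ 2, x 2 ^ 2, a 2]

theorem Wm_zero [CharP F 2] : (Wm F)ᵀ * Wm F = 0 := by
  have h2 : (1 : F) + 1 = 0 := CharTwo.add_self_eq_zero 1
  ext i j
  fin_cases i <;> fin_cases j <;> simp [Matrix.mul_apply, Fin.sum_univ_six, Wm, h2]

theorem mul_aux [CharP F 2] (B B' : Matrix (Fin 3) (Fin 3) F) :
    (1 + Wm F * B * (Wm F)ᵀ) * (1 + Wm F * B' * (Wm F)ᵀ) = 1 + Wm F * (B + B') * (Wm F)ᵀ := by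
  have h : Wm F * B * (Wm F)ᵀ * (Wm F * B' * (Wm F)ᵀ) = 0 := by
    have h1 : Wm F * B * (Wm F)ᵀ * (Wm F * B' * (Wm F)ᵀ) = Wm F * B * ((Wm F)ᵀ * Wm F) * B' * (Wm F)ᵀ := by
      simp only [Matrix.mul_assoc]
    rw [h1, Wm_zero, Matrix.mul_zero, Matrix.zero_mul, Matrix.zero_mul]
  rw [Matrix.mul_add, Matrix.mul_one, Matrix.add_mul, Matrix.one_mul, h, add_zero, Matrix.mul_add, Matrix.add_mul,
    add_assoc]

theorem det_aux [CharP F 2] (B : Matrix (Fin 3) (Fin 3) F) : (1 + Wm F * B * (Wm F)ᵀ).det = 1 := by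
  rw [Matrix.mul_assoc, det_one_add_mul_comm, Matrix.mul_assoc, Wm_zero, Matrix.mul_zero, add_zero, det_one]

theorem tr_aux (B : Matrix (Fin 3) (Fin 3) F) :
    (1 + Wm F * B * (Wm F)ᵀ)ᵀ = 1 + Wm F * Bᵀ * (Wm F)ᵀ := by
  rw [transpose_add, transpose_one, transpose_mul, transpose_mul, transpose_transpose, Matrix.mul_assoc]

theorem map_aux [CharP F 2] (B : Matrix (Fin 3) (Fin 3) F) :
    (1 + Wm F * B * (Wm F)ᵀ).map (frobenius F 2) = 1 + Wm F * B.map (frobenius F 2) * (Wm F)ᵀ := by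
  have h1 : (Wm F).map (frobenius F 2) = Wm F := by
    ext i k
    simp only [map_apply, Wm, frobenius_def]
    split_ifs
    · exact one_pow _
    · exact zero_pow (by norm_num)
  have h2 : (Wm F)ᵀ.map (frobenius F 2) = (Wm F)ᵀ := by
    rw [transpose_map, h1]
  rw [Matrix.map_add (frobenius F 2) (map_add _), Matrix.map_one _ (map_zero _) (map_one _), Matrix.map_mul,
    Matrix.map_mul, h1, h2]

theorem herm_aux (n : ℕ) [CharP F 2] (M : Matrix (Fin n) (Fin n) F) (hM : Mᵀ * M.map (frobenius F 2) = 1)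
    (u v : Fin n → F) : hermForm n F 2 (M *ᵥ u) (M *ᵥ v) = hermForm n F 2 u v := by
  have h1 : ∀ u v : Fin n → F, hermForm n F 2 u v = u ⬝ᵥ (frobenius F 2 ∘ v) := fun u v => rfl
  rw [h1, h1]
  have h2 : (frobenius F 2 ∘ (M *ᵥ v)) = M.map (frobenius F 2) *ᵥ (frobenius F 2 ∘ v) := by
    funext i
    exact RingHom.map_mulVec (frobenius F 2) M v i
  rw [h2, dotProduct_mulVec, ← vecMul_transpose, vecMul_vecMul, hM, vecMul_one]

theorem hm_add [CharP F 2] (a a' x x' : Fin 3 → F) : hm (a + a') (x + x') = hm a x + hm a' x' := by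
  have h2 : ∀ s t : F, (s + t) ^ 2 = s ^ 2 + t ^ 2 := fun s t => add_pow_char s t 2
  ext i j
  fin_cases i <;> fin_cases j <;> simp [hm, h2]

variable [Fintype F]

theorem hm_map [CharP F 2] (hF : Fintype.card F = 4) (a x : Fin 3 → F) (ha : ∀ i, a i ^ 2 = a i) :
    (hm a x).map (frobenius F 2) = (hm a x)ᵀ := by
  have h4 : ∀ s : F, (s ^ 2) ^ 2 = s := fun s => by
    have := FiniteField.pow_card s
    rw [hF] at this
    rw [← pow_mul]
    exact this
  ext i j
  fin_cases i <;> fin_cases j <;> simp [hm, frobenius_def, ha, h4]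

/-- the elements of the unitary group -/
def uu [CharP F 2] (hF : Fintype.card F = 2 ^ 2) (v : (Fin 3 → Kq hF) × (Fin 3 → F)) : SU 6 F 2 :=
  ⟨⟨1 + Wm F * hm (fun i => (v.1 i : F)) v.2 * (Wm F)ᵀ, det_aux _⟩, by
    refine (Cfsg.Agent.LieClassical.HermBasic.mem_SU_iff _).2 ?_
    intro a b
    refine herm_aux 6 _ ?_ a b
    rw [tr_aux, map_aux, hm_map (by rw [hF]; norm_num) _ _ (fun i => (v.1 i).2), mul_aux]
    have h2 : ∀ B : Matrix (Fin 3) (Fin 3) F, B + B = 0 := fun B => Matrix.ext fun i j => add_self _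
    rw [h2, Matrix.mul_zero, Matrix.zero_mul, add_zero]⟩

theorem coe_uu [CharP F 2] (hF : Fintype.card F = 2 ^ 2) (v : (Fin 3 → Kq hF) × (Fin 3 → F)) :
    (((uu hF v : SU 6 F 2) : Matrix.SpecialLinearGroup (Fin 6) F) : Matrix (Fin 6) (Fin 6) F) =
      1 + Wm F * hm (fun i => (v.1 i : F)) v.2 * (Wm F)ᵀ := rfl

theorem uu_add [CharP F 2] (hF : Fintype.card F = 2 ^ 2) (v w : (Fin 3 → Kq hF) × (Fin 3 → F)) :
    uu hF (v + w) = uu hF v * uu hF w := by
  apply Cfsg.Agent.RankThreeTwo.Uni.ext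
  rw [Cfsg.Agent.RankThreeTwo.Uni.coe_mul, coe_uu, coe_uu, coe_uu, mul_aux, ← hm_add]
  rfl

/-- **`U₆(2)`** -/
theorem rank_psu (hF : Fintype.card F = 2 ^ 2) [CharP F 2] : PRankAtLeast 2 9 (PSU 6 F 2) := by
  obtain ⟨c, hc, hc1⟩ := exists_norm_one hF
  refine of_quot (V := (Fin 3 → Kq hF) × (Fin 3 → F)) (fun v => ?_) ?_ _ (uu hF) (uu_add hF) fun v hv => ?_
  · refine Prod.ext (funext fun i => Subtype.ext (add_self _)) (funext fun i => add_self _)
  · rw [Nat.card_prod, Nat.card_fun, Nat.card_fun, card_Kq, Nat.card_eq_fintype_card, Nat.card_eq_fintype_card,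
      Fintype.card_fin, hF]
    norm_num
  · have key : ∀ i j : Fin 6, i ≠ j →
        (1 + Wm F * hm (fun i => (v.1 i : F)) v.2 * (Wm F)ᵀ : Matrix (Fin 6) (Fin 6) F) i j = 0 := by
      intro i j hij
      have h := offdiag_eq_zero (by norm_num) hc hc1 hv hij
      rw [coe_uu] at h
      exact h
    have e1 := key 0 2 (by decide)
    have e2 := key 0 4 (by decide)
    have e3 := key 2 4 (by decide)
    have e4 := key 0 1 (by decide)
    have e5 := key 2 3 (by decide)
    have e6 := key 4 5 (by decide)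
    simp [Matrix.mul_apply, Fin.sum_univ_three, Wm, hm] at e1 e2 e3 e4 e5 e6
    refine Prod.ext (funext fun i => ?_) (funext fun i => ?_)
    · fin_cases i
      · exact e4
      · exact e5
      · exact e6
    · fin_cases i
      · exact e1
      · exact e2
      · exact e3

end Uni

theorem charTwo {F : Type*} [Field F] [Fintype F] {k : ℕ} (hF : Fintype.card F = 2 ^ k) : CharP F 2 := by
  obtain ⟨p, hp⟩ := CharP.exists F
  obtain ⟨m, hpp, hc⟩ := FiniteField.card F p
  have h1 : p ∣ 2 ^ k := by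
    rw [← hF, hc]
    exact dvd_pow_self p m.2.ne'
  have h2 : p = 2 := (Nat.prime_dvd_prime_iff_eq hpp Nat.prime_two).1 (hpp.dvd_of_dvd_pow h1)
  rw [← h2]
  exact hp

variable {N : Type u} [Group N] [Finite N] {t : N} {j : ℕ}

theorem not_psl62 (P : Prof 4 j N t) (h : Real (.psl 6 2) N) : False := by
  obtain ⟨F, _, _, hF, ⟨e⟩⟩ := h
  have hc : CharP F 2 := charTwo (k := 1) (by rw [hF]; norm_num)
  exact rank_false P (k := 9) (by norm_num) (congr e (rank_psl (F := F) 3 (by rw [hF])))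

theorem not_psu62 (P : Prof 4 j N t) (h : Real (.psu 6 2) N) : False := by
  obtain ⟨F, _, _, hF, ⟨e⟩⟩ := h
  have hc : CharP F 2 := charTwo (k := 2) hF
  exact rank_false P (k := 9) (by norm_num) (congr e (rank_psu hF))

theorem not_psp34 (P : Prof 5 j N t) (h : Real (.psp 3 4) N) : False := by
  obtain ⟨F, _, _, hF, ⟨e⟩⟩ := h
  have hc : CharP F 2 := charTwo (k := 2) (by rw [hF]; norm_num)
  exact rank_false P (k := 12) (by norm_num) (congr e (rank_psp (F := F) 3 (by
    rw [hF]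
    have : Fintype.card (Sym2 (Fin 3)) = 6 := by decide
    rw [this]
    norm_num)))

end Cfsg.Agent.H217.Ev
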