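import Cfsg.Agent.H217.OddElim
import Cfsg.Agent.H217.AltNum
import Cfsg.Agent.H217.KillM
import Cfsg.Agent.H217.KillRank
import Cfsg.Agent.H217.KillLySuz
import Cfsg.Agent.OddHalf.Known

/-!
# The known simple groups with the profile are alternating (helper217)
-/

set_option autoImplicit false

namespace Cfsg.Agent.H217.Ev

open Cfsg Cfsg.Agent.OrdDiv Cfsg.Agent.H217.Pf Subgroup

universe u

/-- the sporadic survivors are impossible -/
theorem spor_false {n j : ℕ} {N : Type u} [Group N] [Finite N] {t : N} (P : Prof n j N t) (g : Grp)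
    (hg : survS n j g = true) (hr : Real g N) : False := by
  unfold survS at hg
  rw [decide_eq_true_eq] at hg
  simp only [List.mem_cons, Prod.mk.injEq, List.not_mem_nil, or_false] at hg
  rcases hg with h | h | h | h | h | h | h | h | h <;> obtain ⟨rfl, rfl, rfl⟩ := h
  · exact not_m24 P hr
  · exact not_co3 P hr
  · exact not_he P hr
  · exact not_th P hr
  · exact not_co2 P hr
  · exact not_fi23 P hr
  · exact not_m P hr
  · exact not_ly P hr
  · exact not_suz P hr

/-- **The elimination.** -/
theorem prof_alt (T : OrderTable.{u}) {n j : ℕ} {N : Type u} [Group N] [Finite N] [IsSimpleGroup N] {t : N}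
    (P : Prof n j N t) (hn : 3 ≤ n) (hna : ¬ IsMulCommutative N) (hk : IsKnownSimple' N) :
    j = 0 ∧ ∃ m, (m = 4 * n + 2 ∨ m = 4 * n + 3) ∧ Nonempty (N ≃* ↥(alternatingGroup (Fin m))) := by
  rcases OddHalf.Known.classify hna hk with h | ⟨p, -, hp2, h⟩ | h | h
  · obtain ⟨m, hm, ⟨e⟩⟩ := h
    obtain ⟨h1, h2⟩ := alt_deg P hn hm e
    exact ⟨h1, m, h2, ⟨e⟩⟩
  · exact (P.not_odd T hn hp2 h).elim
  · exfalso
    rcases h with h | h
    · obtain ⟨g, hg, hr⟩ := survivors T P hn h
      unfold surv at hg
      rw [decide_eq_true_eq] at hg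
      simp only [List.mem_cons, Prod.mk.injEq, List.not_mem_nil, or_false] at hg
      rcases hg with h | h | h | h | h | h | h | h | h <;> obtain ⟨rfl, rfl, rfl⟩ := h
      · exact not_psl52 P hr
      · exact not_psu52 P hr
      · exact not_psl62 P hr
      · exact not_psu62 P hr
      · exact not_psp34 P hr
      · exact not_psp24 P hna hr
      · exact not_psp42 P hna hr
      · exact not_psl54 P hna hr
      · exact not_ominus52 P hna hr
    · obtain ⟨g, hg, hr⟩ := survivorsS T P hn (Or.inl h)
      exact spor_false P g hg hr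
  · exfalso
    obtain ⟨g, hg, hr⟩ := survivorsS T P hn (Or.inr h)
    exact spor_false P g hg hr

end Cfsg.Agent.H217.Ev
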