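import Cfsg.Agent.H306.Kon.Finish

/-!
# `H306.Kon.finish` with two degrees (helper217)

If `C_G(z) ≅ C_{A_m}(zt)` with `m ≡ 2, 3 (mod 4)`, and `G ⧸ N ≅ A_{m'}` with `N` of odd order,
then `N = 1`.  The proof is the one of helper306 (`H306.Kon.finish`), which does not use `m = m'`.
-/

set_option autoImplicit false
set_option linter.unusedSectionVars false

namespace Cfsg.Agent.H217.Fin

open Subgroup Equiv Equiv.Perm Cfsg.Agent.H306.Kon Cfsg.Agent.H313.Alt

theorem finish_gen {G : Type*} [Group G] [Finite G] {m m' : ℕ} (hm : 7 ≤ m) (hm' : 7 ≤ m') (hmod : m % 4 = 2 ∨ m % 4 = 3)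
    (zt : alternatingGroup (Fin m)) (hzt : orderOf zt = 2) (z : G) (hz : orderOf z = 2)
    (e : ↥(Subgroup.centralizer ({z} : Set G)) ≃* ↥(Subgroup.centralizer ({zt} : Set ↥(alternatingGroup (Fin m)))))
    (N : Subgroup G) [hN : N.Normal] (hNodd : Odd (Nat.card N)) (φ : G →* alternatingGroup (Fin m'))
    (hφ : Function.Surjective φ) (hker : φ.ker = N) : N = ⊥ := by
  classical
  have hsimp : IsSimpleGroup (alternatingGroup (Fin m')) :=
    alternatingGroup.isSimpleGroup (by rw [Nat.card_fin]; omega)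
  set s : Perm (Fin m) := (zt : Perm (Fin m)) with hs_def
  have hso : orderOf s = 2 := by rw [hs_def, Subgroup.orderOf_coe]; exact hzt
  have hs : s * s = 1 := by rw [← pow_two, ← hso, pow_orderOf_eq_one]
  have hs1 : s ≠ 1 := by
    intro h
    rw [h, orderOf_one] at hso
    omega
  obtain ⟨k, hk⟩ := four_dvd_support hso (mem_alternatingGroup.1 zt.2)
  have hk0 : 0 < s.support.card := by
    rw [Finset.card_pos]
    exact Finset.nonempty_iff_ne_empty.2 fun h => hs1 (support_eq_empty_iff.1 h)
  have hmove : ∃ a, s a ≠ a := by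
    obtain ⟨a, ha⟩ := Finset.card_pos.1 hk0
    exact ⟨a, mem_support.1 ha⟩
  have hex : ∀ a, s a ≠ a → ∃ b, Dis s a b := by
    intro a ha
    have h1 : 2 < s.support.card := by omega
    have h2 : ∃ b ∈ s.support, b ∉ ({a, s a} : Finset (Fin m)) := by
      apply Finset.exists_mem_notMem_of_card_lt_card
      exact (Finset.card_le_two).trans_lt h1
    obtain ⟨b, hb, hb2⟩ := h2
    simp only [Finset.mem_insert, Finset.mem_singleton, not_or] at hb2
    exact ⟨b, ⟨ha, mem_support.1 hb, fun h => hb2.1 h.symm, fun h => hb2.2 (by rw [h, ss hs])⟩⟩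
  have hr : Nat.card {x // s x = x} = m - s.support.card := by
    have h1 : Nat.card {x // s x = x} = (s.supportᶜ).card := by
      rw [Nat.card_eq_fintype_card, Fintype.card_subtype]
      congr 1
      ext x
      simp
    rw [h1, Finset.card_compl, Fintype.card_fin]
  have hle : s.support.card ≤ m := by
    have := Finset.card_le_univ s.support
    rwa [Fintype.card_fin] at this
  have hr4 : (m - s.support.card) % 4 = 2 ∨ (m - s.support.card) % 4 = 3 := by omega
  -- the embedding of `C(z)`
  let ι : ↥(centralizer ({z} : Set G)) →* Perm (Fin m) :=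
    (alternatingGroup (Fin m)).subtype.comp ((centralizer ({zt} : Set (alternatingGroup (Fin m)))).subtype.comp
      e.toMonoidHom)
  have hιinj : Function.Injective ι :=
    (Subtype.val_injective.comp Subtype.val_injective).comp e.injective
  have hι1 : ∀ x, ι x ∈ CC s := by
    intro x
    rw [mem_CC]
    refine ⟨?_, mem_alternatingGroup.1 (e x).1.2⟩
    have h1 := mem_centralizer_singleton_iff.1 (e x).2
    exact congrArg Subtype.val h1
  have hι2 : ∀ c ∈ CC s, ∃ x, ι x = c := by
    intro c hc
    rw [mem_CC] at hc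
    have h1 : (⟨c, mem_alternatingGroup.2 hc.2⟩ : alternatingGroup (Fin m)) ∈
        centralizer ({zt} : Set (alternatingGroup (Fin m))) := by
      rw [mem_centralizer_singleton_iff]
      exact Subtype.ext hc.1
    refine ⟨e.symm ⟨_, h1⟩, ?_⟩
    change (((e (e.symm ⟨_, h1⟩)) : alternatingGroup (Fin m)) : Perm (Fin m)) = c
    rw [e.apply_symm_apply]
  set K : Subgroup (Perm (Fin m)) := (N.subgroupOf (centralizer ({z} : Set G))).map ι with hKdef
  have hKc : Nat.card K = Nat.card ↥(N ⊓ centralizer ({z} : Set G)) := by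
    have h1 : Nat.card K = Nat.card ↥(N.subgroupOf (centralizer ({z} : Set G))) :=
      (Nat.card_congr ((N.subgroupOf (centralizer ({z} : Set G))).equivMapOfInjective ι hιinj).toEquiv).symm
    rw [h1]
    refine Nat.card_congr
      { toFun := fun x => ⟨x.1.1, x.2, x.1.2⟩
        invFun := fun x => ⟨⟨x.1, x.2.2⟩, x.2.1⟩
        left_inv := fun x => rfl
        right_inv := fun x => rfl }
  have hK : K ≤ CC s := by
    rintro _ ⟨x, -, rfl⟩
    exact hι1 x
  have hKN : ∀ c ∈ CC s, ∀ n ∈ K, c * n * c⁻¹ ∈ K := by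
    rintro c hc _ ⟨x, hx, rfl⟩
    obtain ⟨y, rfl⟩ := hι2 c hc
    refine ⟨y * x * y⁻¹, ?_, by rw [map_mul, map_mul, map_inv]⟩
    exact hN.conj_mem _ hx _
  have hKodd : Odd (Nat.card K) := by
    rw [hKc]
    exact hNodd.of_dvd_nat (card_dvd_of_le inf_le_left)
  have hz2 : z * z = 1 := by rw [← pow_two, ← hz, pow_orderOf_eq_one]
  have hz1 : z ≠ 1 := by
    intro h
    rw [h, orderOf_one] at hz
    omega
  have eφ : (G ⧸ N) ≃* alternatingGroup (Fin m') := by
    subst hker
    exact QuotientGroup.quotientKerEquivOfSurjective φ hφ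
  rcases card_odd_normal hs hex hK hKN hKodd hr hr4 with hc | ⟨-, hc⟩
  · -- `z` inverts `N`
    have h1 : N ⊓ centralizer ({z} : Set G) = ⊥ := by
      rw [hKc] at hc
      exact Subgroup.eq_bot_of_card_eq _ hc
    refine Cfsg.Agent.H313.Red.eq_bot_of_fixedPointFree N hNodd hz2 hz1 ?_ ?_ ?_
    · exact eφ.isSimpleGroup
    · obtain ⟨a, b, hab⟩ := exists_noncomm_alt hm'
      refine ⟨eφ.symm a, eφ.symm b, fun h => hab ?_⟩
      rw [← map_mul, ← map_mul] at h
      exact eφ.symm.injective h
    · intro x hx hxz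
      have h2 : x ∈ N ⊓ centralizer ({z} : Set G) := ⟨hx, mem_centralizer_singleton_iff.2 hxz⟩
      rw [h1] at h2
      exact h2
  · exfalso
    obtain ⟨y0, hy0C, hy0, n0, hn0K, hn0⟩ := exists_inverting hs hex hK hKN hc hmove
    obtain ⟨y1, rfl⟩ := hι2 y0 hy0C
    obtain ⟨x1, hx1, rfl⟩ := hn0K
    have hy1 : (y1 : G) * y1 = 1 := by
      have h1 : y1 * y1 = 1 := hιinj (by rw [map_mul, hy0, map_one])
      exact congrArg Subtype.val h1
    have hxy : (y1 : G) * x1 ≠ x1 * y1 := by
      intro h
      apply hn0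
      rw [← map_mul, ← map_mul]
      exact congrArg ι (Subtype.ext h)
    have hkerodd : Odd (Nat.card φ.ker) := by rw [hker]; exact hNodd
    have hφz : orderOf (φ z) = 2 := by
      refine orderOf_eq_prime ?_ ?_
      · rw [pow_two, ← map_mul, hz2, map_one]
      · intro h
        have h1 : z ∈ N := by rw [← hker]; exact h
        have h2 : orderOf (⟨z, h1⟩ : N) ∣ Nat.card N := orderOf_dvd_natCard _
        rw [← Subgroup.orderOf_coe] at h2
        rw [show orderOf ((⟨z, h1⟩ : N) : G) = 2 from hz] at h2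
        exact absurd (hNodd.of_dvd_nat h2) (by decide)
    obtain ⟨τ', h1, h2, h3, h4, h5⟩ := exists_four (φ z) hφz
    obtain ⟨u, v, hu, hv, hu2, hv2, huv⟩ := lift_four φ hφ hkerodd hφz h1 h3
    have huu : u * u = 1 := by rw [← pow_two, ← hu2, pow_orderOf_eq_one]
    have hvv : v * v = 1 := by rw [← pow_two, ← hv2, pow_orderOf_eq_one]
    have hne : u ≠ v := by
      rintro rfl
      exact h2 (hv.symm.trans hu)
    have huv2 : orderOf (u * v) = 2 := by
      refine orderOf_eq_prime ?_ ?_
      · rw [pow_two, mul_assoc, ← mul_assoc v, ← huv, mul_assoc, hvv, mul_one, huu]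
      · intro h
        have := mul_eq_one_iff_eq_inv.1 h
        exact hne (by rw [this]; exact inv_eq_of_mul_eq_one_left hvv)
    have hconj : ∀ w, orderOf w = 2 → IsConj (φ z) (φ w) → IsConj z w := by
      intro w hw h
      obtain ⟨c, hc⟩ := isConj_iff.1 h
      obtain ⟨g, rfl⟩ := hφ c
      refine Cfsg.Agent.MTwelveType.PatQuot.isConj_of_isConj_quot N hNodd hz hw ?_
      rw [isConj_iff]
      refine ⟨(g : G ⧸ N), ?_⟩
      rw [← QuotientGroup.mk_mul, ← QuotientGroup.mk_inv, ← QuotientGroup.mk_mul, QuotientGroup.eq, ← hker,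
        MonoidHom.mem_ker, map_mul, map_inv, map_mul, map_mul, map_inv, hc, inv_mul_cancel]
    have hcard3 : ∀ w, w = u ∨ w = v ∨ w = u * v → Nat.card ↥(N ⊓ centralizer ({w} : Set G)) = 3 := by
      intro w hw
      have h6 : IsConj z w := by
        rcases hw with rfl | rfl | rfl
        · exact hconj _ hu2 (by rw [hu])
        · exact hconj _ hv2 (by rw [hv]; exact h4)
        · exact hconj _ huv2 (by rw [map_mul, hu, hv]; exact h5)
      rw [card_conj N h6, ← hKc, hc]
    have hdvd := card_sq_dvd hNodd hu2 hv2 huv hne hcard3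
    have : Fact (Nat.Prime 7) := ⟨by norm_num⟩
    have h7 : 7 ∣ Nat.card G := by
      have h8 : 7 ∣ Nat.card (alternatingGroup (Fin m')) := by
        have hnt : Nontrivial (Fin m') := Fin.nontrivial_iff_two_le.2 (by omega)
        have h9 := two_mul_nat_card_alternatingGroup (α := Fin m')
        rw [Nat.card_perm, Nat.card_fin] at h9
        have h10 : 7 ∣ m'.factorial := (Nat.Prime.dvd_factorial (by norm_num)).2 hm'
        rw [← h9] at h10
        exact (Nat.Coprime.dvd_mul_left (by norm_num)).1 h10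
      exact h8.trans (Subgroup.card_dvd_of_surjective φ hφ)
    obtain ⟨y, hy⟩ := exists_prime_orderOf_dvd_card' 7 h7
    have hNy := le_centralizer_seven (N := N) hy hdvd
    have hLn : (centralizer (N : Set G)).Normal := inferInstance
    have hyL : y ∈ centralizer (N : Set G) := by
      rw [Subgroup.mem_centralizer_iff]
      intro n hn
      exact mem_centralizer_singleton_iff.1 (hNy hn)
    have hmapn : ((centralizer (N : Set G)).map φ).Normal := hLn.map φ hφ
    have hN3 : ¬ 7 ∣ Nat.card N := by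
      intro h
      have h11 : 7 ∣ (3 ^ 2) ^ 3 := (dvd_pow h (by norm_num)).trans hdvd
      norm_num at h11
    rcases hmapn.eq_bot_or_eq_top with hb | ht
    · have h12 : φ y = 1 := by
        have h13 : φ y ∈ (centralizer (N : Set G)).map φ := ⟨y, hyL, rfl⟩
        rw [hb] at h13
        exact h13
      have h14 : y ∈ N := by rw [← hker]; exact h12
      apply hN3
      have h15 := orderOf_dvd_natCard (⟨y, h14⟩ : N)
      rw [← Subgroup.orderOf_coe] at h15
      rwa [show orderOf ((⟨y, h14⟩ : N) : G) = 7 from hy] at h15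
    · -- involutions centralize `N`
      have hy1L : (y1 : G) ∈ centralizer (N : Set G) := by
        have h13 : φ y1 ∈ (centralizer (N : Set G)).map φ := by rw [ht]; exact Subgroup.mem_top _
        obtain ⟨l, hl, hl2⟩ := h13
        have hn : l⁻¹ * y1 ∈ N := by
          rw [← hker, MonoidHom.mem_ker, map_mul, map_inv, hl2, inv_mul_cancel]
        have h16 : ((y1 : G) : G ⧸ centralizer (N : Set G)) = ((l⁻¹ * y1 : G) : G ⧸ centralizer (N : Set G)) := by
          have h17 : ((l⁻¹ : G) : G ⧸ centralizer (N : Set G)) = 1 :=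
            (QuotientGroup.eq_one_iff _).2 (inv_mem hl)
          rw [QuotientGroup.mk_mul, h17, one_mul]
        rw [← QuotientGroup.eq_one_iff, ← orderOf_eq_one_iff]
        have h18 : orderOf ((y1 : G) : G ⧸ centralizer (N : Set G)) ∣ 2 :=
          orderOf_dvd_of_pow_eq_one (by rw [pow_two, ← QuotientGroup.mk_mul, hy1, QuotientGroup.mk_one])
        have h19 : orderOf ((y1 : G) : G ⧸ centralizer (N : Set G)) ∣ Nat.card N := by
          rw [h16]
          have h20 : orderOf (QuotientGroup.mk' (centralizer (N : Set G)) (l⁻¹ * y1)) ∣ orderOf (l⁻¹ * (y1 : G)) :=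
            orderOf_map_dvd _ _
          refine h20.trans ?_
          have h21 := orderOf_dvd_natCard (⟨_, hn⟩ : N)
          rwa [← Subgroup.orderOf_coe] at h21
        exact Nat.eq_one_of_dvd_coprimes (Nat.coprime_two_left.2 hNodd) h18 h19
      apply hxy
      rw [Subgroup.mem_centralizer_iff] at hy1L
      exact (hy1L x1 hx1).symm

end Cfsg.Agent.H217.Fin
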