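import Cfsg.Agent.H217.EvenNum
import Cfsg.Agent.H992.Stages.LFive
import Cfsg.Agent.OddHalf.D4.UFiveTwo.Sheet

/-!
# The survivors `L₅(2)` and `U₅(2)` (helper217)
-/

set_option autoImplicit false

namespace Cfsg.Agent.H217.Ev

open Cfsg Cfsg.Agent.OrdDiv Cfsg.Agent.H217.Pf Subgroup

universe u

theorem orderOf_t {n j : ℕ} {N : Type u} [Group N] {t : N} (P : Prof n j N t) : orderOf t = 2 :=
  orderOf_eq_prime (by rw [pow_two]; exact P.tt) P.ne

/-- the involution is central in a Sylow 2-subgroup -/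
theorem exists_sylow {n j : ℕ} {N : Type u} [Group N] [Finite N] {t : N} (P : Prof n j N t) :
    ∃ S : Sylow 2 N, t ∈ S ∧ ∀ s ∈ S, s * t = t * s := by
  have hf : Fact (Nat.Prime 2) := ⟨Nat.prime_two⟩
  obtain ⟨S⟩ : Nonempty (Sylow 2 (centralizer ({t} : Set N))) := inferInstance
  obtain ⟨Q, hQ⟩ := (S.2.map (centralizer ({t} : Set N)).subtype).exists_le_sylow
  have hcard : Nat.card Q = Nat.card S := by
    rw [Sylow.card_eq_multiplicity, Sylow.card_eq_multiplicity]
    congr 1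
    have h1 := (centralizer ({t} : Set N)).card_mul_index
    rw [← h1, Nat.factorization_mul (Nat.card_pos).ne' (by
      intro h0
      apply P.odd
      rw [h0]
      exact dvd_zero 2), Finsupp.add_apply, Nat.factorization_eq_zero_of_not_dvd P.odd, add_zero]
  have hQe : (Q : Subgroup N) = (S : Subgroup (centralizer ({t} : Set N))).map (centralizer ({t} : Set N)).subtype := by
    symm
    apply Subgroup.eq_of_le_of_card_ge hQ
    rw [Subgroup.card_map_of_injective (centralizer ({t} : Set N)).subtype_injective]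
    exact hcard.le
  have hc : ∀ s ∈ Q, s * t = t * s := by
    intro s hs
    have h1 : s ∈ (Q : Subgroup N) := hs
    rw [hQe] at h1
    obtain ⟨c, -, rfl⟩ := h1
    exact mem_centralizer_singleton_iff.1 c.2
  refine ⟨Q, ?_, hc⟩
  have h2 : IsPGroup 2 (zpowers t) := by
    rw [IsPGroup.iff_card]
    exact ⟨1, by rw [Nat.card_zpowers, orderOf_t P, pow_one]⟩
  have h3 : IsPGroup 2 ((Q : Subgroup N) ⊔ zpowers t : Subgroup N) := by
    refine IsPGroup.to_sup_of_normal_right' Q.2 h2 ?_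
    intro s hs
    rw [mem_normalizer_iff]
    intro x
    have h4 : s * x * s⁻¹ ∈ zpowers t ↔ x ∈ zpowers t := by
      have h5 := hc s hs
      constructor
      · rintro ⟨k, hk⟩
        refine ⟨k, ?_⟩
        have h6 : (fun k => t ^ k) k = s * x * s⁻¹ := hk
        have h7 : s * t ^ k = t ^ k * s := (Commute.zpow_right (show Commute s t from h5) k).eq
        have h8 : x = s⁻¹ * (t ^ k) * s := by
          rw [show t ^ k = s * x * s⁻¹ from h6]; group
        change t ^ k = x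
        rw [h8, mul_assoc, ← h7]; group
      · rintro ⟨k, rfl⟩
        refine ⟨k, ?_⟩
        have h7 : s * t ^ k = t ^ k * s := (Commute.zpow_right (show Commute s t from h5) k).eq
        change t ^ k = s * t ^ k * s⁻¹
        rw [h7]; group
    exact h4.symm
  have h4 := Q.3 h3 le_sup_left
  have h5 : t ∈ (Q : Subgroup N) ⊔ zpowers t := (le_sup_right : zpowers t ≤ _) (mem_zpowers t)
  rw [h4] at h5
  exact h5

/-- normal 2-subgroups of the centralizer of a conjugate of the involution are abelian -/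
theorem ab_conj {n j : ℕ} {N : Type u} [Group N] {t : N} (P : Prof n j N t) {z p : N} (hp : p * t * p⁻¹ = z)
    (Q : Subgroup N) (hQ2 : IsPGroup 2 Q) (hQz : ∀ q ∈ Q, q * z = z * q)
    (hQn : ∀ g, g * z = z * g → ∀ q ∈ Q, g * q * g⁻¹ ∈ Q) : ∀ x ∈ Q, ∀ y ∈ Q, x * y = y * x := by
  have hz : ∀ g, g * t = t * g → p * g * p⁻¹ * z = z * (p * g * p⁻¹) := by
    intro g hg
    rw [← hp]
    calc p * g * p⁻¹ * (p * t * p⁻¹) = p * (g * t) * p⁻¹ := by group
      _ = p * (t * g) * p⁻¹ := by rw [hg]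
      _ = _ := by group
  have hz' : ∀ g, g * z = z * g → p⁻¹ * g * p * t = t * (p⁻¹ * g * p) := by
    intro g hg
    have ht : t = p⁻¹ * z * p := by rw [← hp]; group
    rw [ht]
    calc p⁻¹ * g * p * (p⁻¹ * z * p) = p⁻¹ * (g * z) * p := by group
      _ = p⁻¹ * (z * g) * p := by rw [hg]
      _ = _ := by group
  let f : centralizer ({t} : Set N) →* N := (MulAut.conj p).toMonoidHom.comp (centralizer ({t} : Set N)).subtype
  have hf : Function.Injective f := (MulAut.conj p).injective.comp (centralizer ({t} : Set N)).subtype_injective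
  have hfv : ∀ c, f c = p * c * p⁻¹ := fun c => rfl
  have hR : (Q.comap f).Normal := by
    refine ⟨fun c hc g => ?_⟩
    rw [mem_comap, hfv] at hc ⊢
    have h1 := hQn (p * g * p⁻¹) (hz g (mem_centralizer_singleton_iff.1 g.2)) _ hc
    have h2 : p * ((g * c * g⁻¹ : centralizer ({t} : Set N)) : N) * p⁻¹ =
        p * (g : N) * p⁻¹ * (p * (c : N) * p⁻¹) * (p * (g : N) * p⁻¹)⁻¹ := by
      rw [coe_mul, coe_mul, coe_inv]; group
    rw [h2]
    exact h1
  have hab := P.ab (Q.comap f) hR (hQ2.comap_of_injective f hf)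
  intro x hx y hy
  have key : ∀ x ∈ Q, ∃ c ∈ Q.comap f, f c = x := by
    intro x hx
    refine ⟨⟨p⁻¹ * x * p, mem_centralizer_singleton_iff.2 (hz' x (hQz x hx))⟩, ?_, ?_⟩
    · rw [mem_comap, hfv]
      have : p * (p⁻¹ * x * p) * p⁻¹ = x := by group
      rw [this]
      exact hx
    · rw [hfv]
      change p * (p⁻¹ * x * p) * p⁻¹ = x
      group
  obtain ⟨c, hc, rfl⟩ := key x hx
  obtain ⟨d, hd, rfl⟩ := key y hy
  rw [← map_mul, ← map_mul, hab c hc d hd]

theorem dvd_card {n : ℕ} {N : Type u} [Group N] {t : N} (P : Prof n 0 N t) :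
    ww n ∣ Nat.card (centralizer ({t} : Set N)) := by
  obtain ⟨c, -, h⟩ := P.card
  rw [pow_zero, mul_one] at h
  rw [h]
  exact dvd_mul_left _ _

variable {N : Type u} [Group N] [Finite N] {t : N}

theorem not_psl52 (P : Prof 3 0 N t) (h : Real (.psl 5 2) N) : False := by
  obtain ⟨F, _, _, hF, ⟨e⟩⟩ := h
  refine H992.Stages.lfive hF (H992.Stages.CentDvd.congr e ⟨t, orderOf_t P, ?_⟩)
  exact (show 5 ∣ ww 3 by decide +kernel).trans (dvd_card P)

theorem not_psu52 {j : ℕ} (P : Prof 3 j N t) (h : Real (.psu 5 2) N) : False := by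
  obtain ⟨L, _, _, hL, ⟨e⟩⟩ := h
  obtain ⟨F, FA⟩ := Cfsg.Agent.UFiveTwo.p1 N (⊤ : Subgroup N) L (by rw [hL]; norm_num)
    ⟨(Subgroup.topEquiv (G := N)).trans e⟩
  obtain ⟨S, htS, hS⟩ := exists_sylow P
  obtain ⟨p, hp⟩ := Cfsg.Agent.OddHalf.D4.UFiveTwo.exists_conj_T FA S
  have h1 : p * t * p⁻¹ = 1 ∨ p * t * p⁻¹ = F.r 0 := by
    refine Cfsg.Agent.OddHalf.D4.UFiveTwo.cQ' FA fun q hq => ?_
    have h2 : p⁻¹ * q * p ∈ S := by
      rw [hp]
      have : p * (p⁻¹ * q * p) * p⁻¹ = q := by group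
      rw [this]
      exact (le_sup_right : F.Q ≤ F.U ⊔ F.Q) hq
    have h3 := hS _ h2
    calc p * t * p⁻¹ * q = p * (t * (p⁻¹ * q * p)) * p⁻¹ := by group
      _ = p * (p⁻¹ * q * p * t) * p⁻¹ := by rw [h3]
      _ = _ := by group
  have h2 : p * t * p⁻¹ = F.r 0 := by
    rcases h1 with h1 | h1
    · exfalso
      apply P.ne
      have : t = p⁻¹ * (p * t * p⁻¹) * p := by group
      rw [this, h1]; group
    · exact h1
  have h3 := ab_conj P h2 F.Q (Cfsg.Agent.OddHalf.D4.UFiveTwo.two_Q FA) F.Q_r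
    (fun g hg q hq => F.Q_conj g (mem_top _) hg q hq)
  have h4 : ∀ q ∈ F.Q, q = 1 ∨ q = F.r 0 := fun q hq => F.Q_nd q hq fun q' hq' => h3 q hq q' hq'
  have h5 : Nat.card F.Q ≤ 2 := by
    have h6 : ((F.Q : Subgroup N) : Set N) ⊆ {1, F.r 0} := fun q hq => by
      rcases h4 q hq with h | h <;> simp [h]
    calc Nat.card F.Q = ((F.Q : Subgroup N) : Set N).ncard := rfl
      _ ≤ ({1, F.r 0} : Set N).ncard := Set.ncard_le_ncard h6
      _ ≤ 2 := (Set.ncard_insert_le _ _).trans (by rw [Set.ncard_singleton])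
  rw [F.card_Q] at h5
  norm_num at h5

end Cfsg.Agent.H217.Ev
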