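import Cfsg.Agent.H217.EvenNum
import Cfsg.Agent.H489.OutClassical

/-!
# The survivors with `j = 2`: the outer automorphism group is too small (helper217)
-/

set_option autoImplicit false

namespace Cfsg.Agent.H217.Ev

open Cfsg Cfsg.Agent.OrdDiv Cfsg.Agent.H217.Pf Subgroup

universe u

/-- a group of order four has a nontrivial homomorphism to the units -/
theorem exists_hom_four {Q : Type*} [Group Q] [Finite Q] (h4 : Nat.card Q = 4) : ∃ φ : Q →* ℤˣ, ∃ x, φ x ≠ 1 := by
  have hf : Fact (Nat.Prime 2) := ⟨Nat.prime_two⟩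
  obtain ⟨K, hK⟩ := Sylow.exists_subgroup_card_pow_prime (G := Q) 2 (n := 1) (by rw [h4]; norm_num)
  have hi : K.index = 2 := by
    have := K.card_mul_index
    rw [hK, h4] at this
    omega
  have hn : K.Normal := Subgroup.normal_of_index_eq_two hi
  have h1 : 2 ∣ Nat.card (Q ⧸ K) := by
    rw [← Subgroup.index_eq_card, hi]
  have h2 : ¬ 4 ∣ Nat.card (Q ⧸ K) := by
    rw [← Subgroup.index_eq_card, hi]
    norm_num
  obtain ⟨φ, x, hx⟩ := exists_hom h1 h2
  obtain ⟨y, rfl⟩ := QuotientGroup.mk_surjective x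
  exact ⟨φ.comp (QuotientGroup.mk' K), y, hx⟩

/-- **`j = 2`** needs an outer automorphism group of order at least five -/
theorem four_lt {n : ℕ} {N : Type u} [Group N] [Finite N] {t : N} (P : Prof n 2 N t) :
    4 < Nat.card (Cfsg.Out N) := by
  obtain ⟨Q, h4, hQ⟩ := P.out rfl
  have hfin : Finite (Cfsg.Out N) := by
    unfold Cfsg.Out
    infer_instance
  have h1 : Nat.card Q ∣ Nat.card (Cfsg.Out N) := card_subgroup_dvd_card Q
  have h2 : Nat.card Q ≤ Nat.card (Cfsg.Out N) := Nat.le_of_dvd Nat.card_pos h1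
  have h3 : 4 ≤ Nat.card Q := Nat.le_of_dvd Nat.card_pos h4
  by_contra hlt
  have h5 : Nat.card Q = 4 := by omega
  obtain ⟨φ, x, hx⟩ := exists_hom_four h5
  exact hx (hQ φ x)

variable {N : Type u} [Group N] [Finite N] [IsSimpleGroup N] {t : N}

theorem not_psl54 {n : ℕ} (P : Prof n 2 N t) (hna : ¬ IsMulCommutative N) (h : Real (.psl 5 4) N) : False := by
  obtain ⟨F, _, _, hF, ⟨e⟩⟩ := h
  have hp : Fact (Nat.Prime 2) := ⟨Nat.prime_two⟩
  have h1 := Cfsg.Agent.S0813.result (F := F) 2 2 (by norm_num) (by rw [hF]; norm_num) 5 (by norm_num)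
    (fun h => absurd h (by norm_num))
  rw [H489.card_pgl F (by norm_num), hF] at h1
  have h2 := H489.card_out_of hna e (c := 4) (by rw [h1]; norm_num)
  have h3 := four_lt P
  omega

theorem not_psp24 {n : ℕ} (P : Prof n 2 N t) (hna : ¬ IsMulCommutative N) (h : Real (.psp 2 4) N) : False := by
  obtain ⟨F, _, _, hF, ⟨e⟩⟩ := h
  have hp : Fact (Nat.Prime 2) := ⟨Nat.prime_two⟩
  have h1 := Cfsg.Agent.S0814.result (F := F) 2 2 (by norm_num) (by rw [hF]; norm_num) 2 (by norm_num)
    (fun _ => by norm_num)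
  have h2 := H489.card_out_of hna e (c := 4) (by rw [h1]; norm_num)
  have h3 := four_lt P
  omega

theorem not_psp42 {n : ℕ} (P : Prof n 2 N t) (hna : ¬ IsMulCommutative N) (h : Real (.psp 4 2) N) : False := by
  obtain ⟨F, _, _, hF, ⟨e⟩⟩ := h
  have hp : Fact (Nat.Prime 2) := ⟨Nat.prime_two⟩
  have h1 := Cfsg.Agent.S0814.result (F := F) 2 1 (by norm_num) (by rw [hF]; norm_num) 4 (by norm_num)
    (fun h => absurd h (by norm_num))
  have h2 := H489.card_out_of hna e (c := 1) (by rw [h1]; norm_num)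
  have h3 := four_lt P
  omega

theorem not_ominus52 {n : ℕ} (P : Prof n 2 N t) (hna : ¬ IsMulCommutative N) (h : Real (.ominus 5 2) N) : False := by
  obtain ⟨F, _, _, a, b, hF, hab, ⟨e⟩⟩ := h
  have hp : Fact (Nat.Prime 2) := ⟨Nat.prime_two⟩
  have h1 := Cfsg.Agent.S0818.result (F := F) 2 1 (by norm_num) (by rw [hF]; norm_num) 5 (by norm_num) a b hab
  have h2 := H489.card_out_of hna e (c := 2) (by rw [h1]; norm_num)
  have h3 := four_lt P
  omega

end Cfsg.Agent.H217.Ev
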