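import Cfsg.Agent.H217.KillFive
import Cfsg.Agent.H217.SporNum
import Cfsg.Agent.KFacts.M24Two.Orders
import Cfsg.Agent.H997.OutHe2
import Cfsg.Agent.CTwoTab.Co3
import Cfsg.Agent.MonsterX.ThOneClass
import Cfsg.Agent.KFacts.CoTwo.RFin
import Cfsg.Agent.H349.Transv
import Cfsg.Agent.H849.Transport
import Cfsg.Agent.S2652

/-!
# The sporadic survivors (helper217)
-/

set_option autoImplicit false

namespace Cfsg.Agent.H217.Ev

open Cfsg Cfsg.Agent.OrdDiv Cfsg.Agent.H217.Pf Subgroup
open Cfsg.Agent.Co2Type.Quad (Large)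

universe u

/-- the order of the centralizer from a conjugate in an isomorphic group -/
theorem card_cent_of {N : Type u} [Group N] {X : Type*} [Group X] (e : N ≃* X) {t : N} {z g : X}
    (h : g * e t * g⁻¹ = z) :
    Nat.card (centralizer ({t} : Set N)) = Nat.card (centralizer ({z} : Set X)) := by
  let f : N ≃* X := e.trans (MulAut.conj g)
  have hf : f t = z := h
  refine Nat.card_congr (f.toEquiv.subtypeEquiv fun x => ?_)
  rw [mem_centralizer_singleton_iff, mem_centralizer_singleton_iff, ← hf]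
  change x * t = t * x ↔ f x * f t = f t * f x
  rw [← map_mul, ← map_mul]
  exact ⟨fun h => congrArg f h, fun h => f.injective h⟩

variable {N : Type u} [Group N] [Finite N] {t : N}

/-- the order of the centralizer -/
theorem card_c {n : ℕ} (P : Prof n 0 N t) : ∃ c, (c = 1 ∨ c = 3) ∧
    Nat.card (centralizer ({t} : Set N)) = c * ww n := by
  obtain ⟨c, hc, h⟩ := P.card
  rw [pow_zero, mul_one] at h
  exact ⟨c, hc, h⟩

theorem tt_map {n j : ℕ} (P : Prof n j N t) {X : Type*} [Group X] (e : N ≃* X) :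
    e t * e t = 1 ∧ e t ≠ 1 := by
  refine ⟨by rw [← map_mul, P.tt, map_one], fun h => P.ne ?_⟩
  exact (map_eq_one_iff e e.injective).1 h

theorem ord_map {n j : ℕ} (P : Prof n j N t) {X : Type*} [Group X] (e : N ≃* X) : orderOf (e t) = 2 := by
  rw [e.orderOf_eq]
  exact orderOf_t P

theorem not_m24 (P : Prof 3 0 N t) (h : Real .m24 N) : False := by
  obtain ⟨e⟩ := h
  obtain ⟨c, hc, h1⟩ := card_c P
  obtain ⟨hs, hne⟩ := tt_map P e
  have hw : ww 3 = 46080 := by decide +kernel
  rcases KFacts.M24Two.Count.conj_or (e t) hs hne with ⟨g, hg⟩ | ⟨g, hg⟩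
  · rw [card_cent_of e hg, KFacts.M24Two.Orders.card_centralizer_z, hw] at h1
    rcases hc with rfl | rfl <;> omega
  · rw [card_cent_of e hg, KFacts.M24Two.Orders.card_centralizer_w, hw] at h1
    rcases hc with rfl | rfl <;> omega

theorem not_he (P : Prof 3 0 N t) (h : Real .he N) : False := by
  obtain ⟨e⟩ := h
  obtain ⟨c, hc, h1⟩ := card_c P
  obtain ⟨hs, hne⟩ := tt_map P e
  have hw : ww 3 = 46080 := by decide +kernel
  rcases KFacts.He.Classes.two_classes_a hs hne with ⟨g, hg⟩ | ⟨g, hg⟩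
  · have hg' : g⁻¹ * e t * g⁻¹⁻¹ = KFacts.He.Bound.z := by rw [← hg]; group
    rw [card_cent_of e hg', KFacts.He.Classes.card_centralizer, hw] at h1
    rcases hc with rfl | rfl <;> omega
  · have hg' : g⁻¹ * e t * g⁻¹⁻¹ = PresentedGroup.of Spor.He.Gen.a := by rw [← hg]; group
    have h2 := H997.OutHe.card_cent_a
    have h3 := card_cent_of e hg'
    have h4 : c * 46080 ∣ 161280 := by
      rw [← hw, ← h1, h3]
      exact h2
    rcases hc with rfl | rfl
    · exact absurd h4 (by norm_num)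
    · exact absurd h4 (by norm_num)

theorem not_th (P : Prof 4 0 N t) (h : Real .th N) : False := by
  obtain ⟨e⟩ := h
  obtain ⟨c, hc, h1⟩ := card_c P
  have hw : ww 4 = 10321920 := by decide +kernel
  have h2 : (1 : Spor.Th) * e t * 1⁻¹ = e t := by group
  rw [card_cent_of e h2, MonsterX.ThOneClass.card_centralizer (ord_map P e), hw] at h1
  rcases hc with rfl | rfl <;> omega

theorem not_co3 (P : Prof 3 0 N t) (h : Real .co3 N) : False := by
  obtain ⟨e⟩ := h
  obtain ⟨c, hc, h1⟩ := card_c P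
  have hw : ww 3 = 46080 := by decide +kernel
  obtain ⟨w, D⟩ := CTwoTab.Co3.exists_data
  have hfin := CTwoTab.Co3.finite_G3
  let f := e.trans SporRec.Co3.Model.equivCo3.symm
  obtain ⟨g, hg | hg⟩ := D.cls (f t) (ord_map P f)
  · have hg' : g⁻¹ * f t * g⁻¹⁻¹ = SporRec.Co3.Ident.Z := by rw [hg]; group
    obtain ⟨π, NS⟩ := D.ns
    have h3 := card_cent_of f hg'
    have h4 := CTwoTab.Co3.card_of_NS NS
    rw [h3, h4, hw] at h1
    rcases hc with rfl | rfl <;> omega
  · have hg' : g⁻¹ * f t * g⁻¹⁻¹ = w := by rw [hg]; group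
    have h3 := card_cent_of f hg'
    obtain ⟨φ, hφ, hk⟩ := D.hom
    have h4 : Nat.card φ.ker ≤ 2 := by
      have h6 : ((φ.ker.map (centralizer ({w} : Set _)).subtype : Subgroup _) : Set _) ⊆ {1, w} := by
        rintro _ ⟨x, hx, rfl⟩
        rcases hk x hx with h | h
        · left
          rw [h]; rfl
        · right
          exact h
      rw [← Subgroup.card_map_of_injective (centralizer ({w} : Set _)).subtype_injective]
      calc Nat.card (φ.ker.map (centralizer ({w} : Set _)).subtype : Subgroup _)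
          = ((φ.ker.map (centralizer ({w} : Set _)).subtype : Subgroup _) : Set _).ncard := rfl
        _ ≤ ({1, w} : Set _).ncard := Set.ncard_le_ncard h6
        _ ≤ 2 := (Set.ncard_insert_le _ _).trans (by rw [Set.ncard_singleton])
    have h5 := φ.ker.card_mul_index
    rw [Subgroup.index_ker, MonoidHom.range_eq_top.2 hφ, card_top, D.card, ← h3, h1, hw] at h5
    have h6 : 1 ≤ Nat.card φ.ker := Nat.card_pos
    rcases hc with rfl | rfl <;> omega

/-- no large extraspecial subgroup -/
theorem not_large {n j : ℕ} (P : Prof n j N t) {Q : Subgroup N} {z : N} (hL : Large Q z) (hc : 2 < Nat.card Q) :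
    False := by
  obtain ⟨S, -, hS⟩ := exists_sylow P
  obtain ⟨g, hg⟩ := H349.Transv.conj_of_commute hL S P.ne fun s hs => (hS s hs).symm
  have hg' : g⁻¹ * t * g⁻¹⁻¹ = z := by rw [← hg]; group
  have h3 := ab_conj P hg' Q (Cfsg.Agent.LargeExtra.Base.isPGroup hL) hL.comm_z hL.conj_mem
  have h4 : ∀ q ∈ Q, q = 1 ∨ q = z := fun q hq => hL.cent q hq fun q' hq' => h3 q hq q' hq'
  have h5 : Nat.card Q ≤ 2 := by
    have h6 : ((Q : Subgroup N) : Set N) ⊆ {1, z} := fun q hq => by
      rcases h4 q hq with h | h <;> simp [h]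
    calc Nat.card Q = ((Q : Subgroup N) : Set N).ncard := rfl
      _ ≤ ({1, z} : Set N).ncard := Set.ncard_le_ncard h6
      _ ≤ 2 := (Set.ncard_insert_le _ _).trans (by rw [Set.ncard_singleton])
  omega

/-- the same in an isomorphic group -/
theorem not_large_of {n j : ℕ} (P : Prof n j N t) {X : Type*} [Group X] (e : N ≃* X) {Q : Subgroup X} {z : X}
    (hL : Large Q z) (hc : 2 < Nat.card Q) : False := by
  refine not_large P (H849.Transport.large_congr e hL) ?_
  have h1 : Nat.card (Q.comap e.toMonoidHom) = Nat.card Q :=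
    Nat.card_congr (e.toEquiv.subtypeEquiv fun x => Iff.rfl)
  rw [h1]
  exact hc

theorem not_co2 {n j : ℕ} (P : Prof n j N t) (h : Real .co2 N) : False := by
  obtain ⟨e⟩ := h
  refine not_large_of P e KFacts.CoTwo.RLarge.large ?_
  rw [KFacts.CoTwo.RLarge.card_R]
  norm_num

theorem not_fi23 {j : ℕ} (P : Prof 5 j N t) (h : Real .fi23 N) : False := by
  obtain ⟨e⟩ := h
  have hfin : Finite Spor.Fi23 := Finite.of_equiv N e.toEquiv
  obtain ⟨T⟩ : Nonempty (Sylow 2 Spor.Fi23) := inferInstance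
  obtain ⟨-, A, ⟨-, -, hA, hc⟩, -⟩ := Cfsg.Agent.S2652.result T
  have h1 := P.rank (A.comap e.toMonoidHom) fun x hx => by
    apply e.injective
    rw [map_mul, map_one, ← pow_two]
    exact hA.2 _ hx
  have h2 : Nat.card (A.comap e.toMonoidHom) = Nat.card A :=
    Nat.card_congr (e.toEquiv.subtypeEquiv fun x => Iff.rfl)
  rw [h2, hc] at h1
  norm_num at h1

end Cfsg.Agent.H217.Ev
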