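import Cfsg.Agent.H217.FinishGen
import Cfsg.Agent.H217.Prof
import Cfsg.Agent.H284.AltComp
import Cfsg.Agent.H313.AltCard
import Cfsg.Agent.S1323

/-!
# Matching the degree (helper217)

`G ≅ A_{m'}` with `m' ∈ {4n+2, 4n+3}`, and an involution whose centralizer has no component and the order
of the centralizer of `n`-fold double transposition pairs in `A_{4n+r}`: then `m' = 4n+r`.
-/

set_option autoImplicit false

namespace Cfsg.Agent.H217.Match

open Subgroup Equiv Equiv.Perm Cfsg Cfsg.Agent.SignalizersComponents.Components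

/-- isomorphic groups have isomorphic centralizers -/
def centCongr {G H : Type*} [Group G] [Group H] (e : G ≃* H) (x : G) :
    ↥(centralizer ({x} : Set G)) ≃* ↥(centralizer ({e x} : Set H)) where
  toFun y := ⟨e y, by
    rw [mem_centralizer_singleton_iff, ← map_mul, mem_centralizer_singleton_iff.1 y.2, map_mul]⟩
  invFun y := ⟨e.symm y, by
    rw [mem_centralizer_singleton_iff]
    apply e.injective
    rw [map_mul, map_mul, e.apply_symm_apply]
    exact mem_centralizer_singleton_iff.1 y.2⟩
  left_inv y := Subtype.ext (e.symm_apply_apply _)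
  right_inv y := Subtype.ext (e.apply_symm_apply _)
  map_mul' y z := Subtype.ext (map_mul e _ _)

section comp
variable {α : Type} [Fintype α] [DecidableEq α] {s : Perm α}

/-- the alternating group of the fixed points is a component -/
theorem isComponent_ker (h5 : 5 ≤ Fintype.card (H284.AltComp.Fx s)) : IsComponent (H284.AltComp.rho s).ker :=
  ⟨(inferInstance : ((H284.AltComp.rho s).ker).Normal).isSubnormal,
    Cfsg.Agent.S1323.isQuasisimple_of_mulEquiv_alternating (by rw [Nat.card_eq_fintype_card]; exact h5)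
      (H284.AltComp.kerEquiv s)⟩

/-- the centralizer in the alternating group -/
theorem cent_eq (t : ↥(alternatingGroup α)) :
    centralizer ({t} : Set ↥(alternatingGroup α)) = H284.AltComp.CA (t : Perm α) := by
  ext x
  rw [H284.AltComp.CA, mem_subgroupOf, mem_centralizer_singleton_iff, mem_centralizer_singleton_iff]
  exact ⟨fun h => congrArg Subtype.val h, fun h => Subtype.ext h⟩

/-- few fixed points -/
theorem card_fix_le (t : ↥(alternatingGroup α))
    (hc : ∀ K : Subgroup ↥(centralizer ({t} : Set ↥(alternatingGroup α))), ¬ IsComponent K) :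
    Fintype.card {x // (t : Perm α) x = x} ≤ 4 := by
  by_contra h
  rw [cent_eq] at hc
  exact hc _ (isComponent_ker (by
    have : Fintype.card (H284.AltComp.Fx (t : Perm α)) = Fintype.card {x // (t : Perm α) x = x} := rfl
    omega))

end comp

/-- **Matching the degree.** -/
theorem match_deg {n r m' : ℕ} (hr : r = 2 ∨ r = 3) (hm' : m' = 4 * n + 2 ∨ m' = 4 * n + 3)
    (α : ↥(alternatingGroup (Fin (4 * n + r)))) (hα : orderOf α = 2)
    (hs : (α : Perm (Fin (4 * n + r))).support.card = 4 * n)
    (s : ↥(alternatingGroup (Fin m'))) (hs2 : orderOf s = 2)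
    (hc : ∀ K : Subgroup ↥(centralizer ({s} : Set ↥(alternatingGroup (Fin m')))), ¬ IsComponent K)
    (hcard : Nat.card ↥(centralizer ({s} : Set ↥(alternatingGroup (Fin m')))) =
      Nat.card ↥(centralizer ({α} : Set ↥(alternatingGroup (Fin (4 * n + r)))))) : m' = 4 * n + r := by
  have h1 := card_fix_le s hc
  have h2 := H313.AltCard.card_fix (s : Perm (Fin m'))
  have h3 := H313.AltCard.card_fix (α : Perm (Fin (4 * n + r)))
  rw [Fintype.card_fin] at h2 h3
  have h4 : orderOf (s : Perm (Fin m')) = 2 := by rw [Subgroup.orderOf_coe]; exact hs2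
  have h4' : orderOf (α : Perm (Fin (4 * n + r))) = 2 := by rw [Subgroup.orderOf_coe]; exact hα
  obtain ⟨k, hk⟩ := H306.Kon.four_dvd_support h4 (mem_alternatingGroup.1 s.2)
  have h5 := Finset.card_le_univ (s : Perm (Fin m')).support
  rw [Fintype.card_fin] at h5
  have h6 : k = n := by omega
  have e1 : (s : Perm (Fin m')) * (s : Perm (Fin m')) = 1 := by rw [← pow_two, ← h4, pow_orderOf_eq_one]
  have e2 : (α : Perm (Fin (4 * n + r))) * (α : Perm (Fin (4 * n + r))) = 1 := by
    rw [← pow_two, ← h4', pow_orderOf_eq_one]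
  obtain ⟨c, hc1, hc2⟩ := H313.AltCard.card_CC' e1 (by omega)
  obtain ⟨c', hc1', hc2'⟩ := H313.AltCard.card_CC' e2 (by omega)
  have h7 : c = c' := by omega
  rw [← Nat.card_congr (H313.AltTrans.centEquiv s).toEquiv, hcard,
    Nat.card_congr (H313.AltTrans.centEquiv α).toEquiv, hc2', h7] at hc2
  have h8 := Nat.eq_of_mul_eq_mul_right (by positivity) hc2
  rw [h2, h3] at h8
  have e3 : 4 * n + r - (α : Perm (Fin (4 * n + r))).support.card = r := by omega
  rw [e3] at h8
  have f2 : (2 : ℕ).factorial = 2 := rfl
  have f3 : (3 : ℕ).factorial = 6 := rfl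
  rcases hr with rfl | rfl <;> rcases hm' with rfl | rfl
  · rfl
  · exfalso
    have e4 : 4 * n + 3 - (s : Perm (Fin (4 * n + 3))).support.card = 3 := by omega
    rw [e4, f2, f3] at h8
    omega
  · exfalso
    have e4 : 4 * n + 2 - (s : Perm (Fin (4 * n + 2))).support.card = 2 := by omega
    rw [e4, f2, f3] at h8
    omega
  · rfl

end Cfsg.Agent.H217.Match
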