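import Cfsg.Agent.H217.Act
import Cfsg.Agent.H217.Red

/-!
# From the centralizer in the alternating group to `Sit` (helper217, S3191)
-/

set_option autoImplicit false

namespace Cfsg.Agent.H217.Trans

open Equiv Cfsg.Agent.H217.SP Cfsg.Agent.H217.Act Cfsg.Agent.H217.Red

/-- the cubes of even permutations of two or three points are trivial -/
theorem cube_two : ∀ b : Perm (Fin 2), Perm.sign b = 1 → b * b * b = 1 := by decide

theorem cube_three : ∀ b : Perm (Fin 3), Perm.sign b = 1 → b * b * b = 1 := by decide

theorem cube {r : ℕ} (hr : r = 2 ∨ r = 3) (b : Perm (Fin r)) (hb : Perm.sign b = 1) : b * b * b = 1 := by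
  rcases hr with rfl | rfl
  · exact cube_two b hb
  · exact cube_three b hb

/-- the order of the alternating group of two or three points -/
theorem card_alt {r : ℕ} (hr : r = 2 ∨ r = 3) : Nat.card (alternatingGroup (Fin r)) ∣ 3 := by
  have h1 : Nontrivial (Fin r) := by
    rcases hr with rfl | rfl <;> infer_instance
  have h2 := two_mul_nat_card_alternatingGroup (α := Fin r)
  rw [Nat.card_perm, Nat.card_fin] at h2
  rcases hr with rfl | rfl
  · have h3 : Nat.card (alternatingGroup (Fin 2)) = 1 := by
      have : (2 : ℕ).factorial = 2 := rfl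
      omega
    rw [h3]; exact one_dvd _
  · have h3 : Nat.card (alternatingGroup (Fin 3)) = 3 := by
      have : (3 : ℕ).factorial = 6 := rfl
      omega
    rw [h3]

section
variable {ι : Type*} [Fintype ι] [DecidableEq ι] {r m : ℕ}

/-- an identification carrying the involution to the standard one -/
theorem exists_equiv (α : ↥(alternatingGroup (Fin m))) (hα : orderOf α = 2)
    (hs : (α : Perm (Fin m)).support.card = 2 * Fintype.card ι) (hm : m = 2 * Fintype.card ι + r)
    (hi : Nonempty ι) : ∃ F : Fin m ≃ (ι × ZMod 2) ⊕ Fin r, F.permCongrHom (α : Perm (Fin m)) = al ι r := by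
  have hc : Fintype.card (Fin m) = Fintype.card ((ι × ZMod 2) ⊕ Fin r) := by
    rw [Fintype.card_sum, Fintype.card_prod, Fintype.card_fin, Fintype.card_fin, ZMod.card, hm, mul_comm]
  let F₀ := Fintype.equivOfCardEq hc
  have h1 : orderOf (F₀.permCongrHom (α : Perm (Fin m))) = 2 := by
    have h2 := orderOf_injective F₀.permCongrHom.toMonoidHom F₀.permCongrHom.injective (α : Perm (Fin m))
    rw [Subgroup.orderOf_coe, hα] at h2
    exact h2
  have h2 : (F₀.permCongrHom (α : Perm (Fin m))).support.card = 2 * Fintype.card ι := by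
    have h3 : (F₀.permCongrHom (α : Perm (Fin m))).support = (α : Perm (Fin m)).support.map F₀.toEmbedding := by
      ext x
      rw [Perm.mem_support, Finset.mem_map]
      constructor
      · intro hx
        refine ⟨F₀.symm x, ?_, F₀.apply_symm_apply x⟩
        rw [Perm.mem_support]
        intro h4
        apply hx
        show F₀ ((α : Perm (Fin m)) (F₀.symm x)) = x
        rw [h4, F₀.apply_symm_apply]
      · rintro ⟨y, hy, rfl⟩ h4
        have h5 : F₀ ((α : Perm (Fin m)) (F₀.symm (F₀ y))) = F₀ y := h4
        rw [F₀.symm_apply_apply] at h5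
        exact (Perm.mem_support.1 hy) (F₀.injective h5)
    rw [h3, Finset.card_map, hs]
  obtain ⟨c, hc⟩ := isConj_iff.1 (isConj_of_support h1 (orderOf_al (r := r) hi) (by rw [h2, support_al]))
  refine ⟨F₀.trans c, ?_⟩
  rw [← hc]
  apply Equiv.ext
  intro x
  rfl

/-- **From the centralizer to `Sit`.** -/
theorem exists_sit (hr : r = 2 ∨ r = 3) (h6 : 6 ≤ Fintype.card ι) (he : Even (Fintype.card ι))
    (hm : m = 2 * Fintype.card ι + r)
    (α : ↥(alternatingGroup (Fin m))) (hα : orderOf α = 2)
    (hs : (α : Perm (Fin m)).support.card = 2 * Fintype.card ι)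
    {G : Type*} [Group G] [Finite G] (t : G) (ht : orderOf t = 2)
    (hiso : Nonempty (↥(Subgroup.centralizer ({t} : Set G)) ≃*
      ↥(Subgroup.centralizer ({α} : Set ↥(alternatingGroup (Fin m)))))) :
    (∃ f : G → W ι, Sit t f) ∧ Nat.card (Ce t) ∣ 3 * Nat.card (W ι) := by
  classical
  obtain ⟨e⟩ := hiso
  have hi : Nonempty ι := Fintype.card_pos_iff.1 (by omega)
  obtain ⟨F, hF⟩ := exists_equiv α hα hs hm hi
  -- the embedding of the centralizer
  let κ : ↥(Ce t) →* Perm ((ι × ZMod 2) ⊕ Fin r) :=
    F.permCongrHom.toMonoidHom.comp ((Subgroup.subtype _).comp ((Subgroup.subtype _).comp e.toMonoidHom))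
  have hκ : Function.Injective κ :=
    F.permCongrHom.injective.comp (Subtype.val_injective.comp (Subtype.val_injective.comp e.injective))
  have hcomm : ∀ g, κ g * al ι r = al ι r * κ g := by
    intro g
    have h1 : ((e g : ↥(Subgroup.centralizer ({α} : Set ↥(alternatingGroup (Fin m))))) :
      ↥(alternatingGroup (Fin m))) * α = α * (e g : ↥(Subgroup.centralizer ({α} : Set ↥(alternatingGroup (Fin m))))) :=
      Subgroup.mem_centralizer_singleton_iff.1 (e g).2
    have h2 := congrArg (fun x : ↥(alternatingGroup (Fin m)) => F.permCongrHom (x : Perm (Fin m))) h1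
    simp only [Subgroup.coe_mul, map_mul] at h2
    rw [hF] at h2
    exact h2
  have hsign : ∀ g, Perm.sign (κ g) = 1 := by
    intro g
    have h1 : Perm.sign ((e g : ↥(alternatingGroup (Fin m))) : Perm (Fin m)) = 1 :=
      Perm.mem_alternatingGroup.1 (e g : ↥(alternatingGroup (Fin m))).2
    rw [← h1]
    exact Perm.sign_permCongr F _
  -- the range
  have hrange : ∀ p : W ι × Perm (Fin r), Perm.sign (Phi ι r p) = 1 → ∃ g, κ g = Phi ι r p := by
    intro p hp
    let β : Perm (Fin m) := F.permCongrHom.symm (Phi ι r p)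
    have hβ : F.permCongrHom β = Phi ι r p := F.permCongrHom.apply_symm_apply _
    have h1 : Perm.sign β = 1 := by
      rw [← hp, ← hβ]
      exact (Perm.sign_permCongr F β).symm
    have h2 : (⟨β, Perm.mem_alternatingGroup.2 h1⟩ : ↥(alternatingGroup (Fin m))) ∈
        Subgroup.centralizer ({α} : Set ↥(alternatingGroup (Fin m))) := by
      rw [Subgroup.mem_centralizer_singleton_iff]
      apply Subtype.ext
      apply F.permCongrHom.injective
      show F.permCongrHom (β * (α : Perm (Fin m))) = F.permCongrHom ((α : Perm (Fin m)) * β)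
      rw [map_mul, map_mul, hF, hβ, al_comm]
    obtain ⟨g, hg⟩ := e.surjective ⟨_, h2⟩
    refine ⟨g, ?_⟩
    show F.permCongrHom ((e g : ↥(alternatingGroup (Fin m))) : Perm (Fin m)) = _
    rw [hg]
    exact hβ
  have hex : ∀ g, ∃ p, Phi ι r p = κ g := fun g => exists_Phi (hcomm g)
  choose q hq using hex
  let φ : ↥(Ce t) →* W ι :=
    { toFun := fun g => (q g).1
      map_one' := by
        have h1 : q 1 = 1 := Phi_inj ι r (by rw [hq, map_one, map_one])
        rw [h1]; rfl
      map_mul' := by
        intro g k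
        have h1 : q (g * k) = q g * q k := Phi_inj ι r (by rw [hq, map_mul, map_mul, hq, hq])
        rw [h1]; rfl }
  have hφ : ∀ g, Phi ι r (φ g, (q g).2) = κ g := hq
  have hsurj : Function.Surjective φ := by
    intro w
    obtain ⟨b, hb⟩ : ∃ b : Perm (Fin r), Perm.sign (act ι w) * Perm.sign b = 1 := by
      rcases Int.units_eq_one_or (Perm.sign (act ι w)) with h1 | h1
      · exact ⟨1, by rw [h1, Perm.sign_one, one_mul]⟩
      · have h0 : 2 ≤ r := by omega
        refine ⟨Equiv.swap ⟨0, by omega⟩ ⟨1, by omega⟩, ?_⟩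
        rw [h1, Perm.sign_swap (by intro h; exact absurd (congrArg Fin.val h) (by norm_num))]
        rfl
    have h1 : Perm.sign (Phi ι r (w, b)) = 1 := by
      rw [Phi_apply, Perm.sign_sumCongr, hb]
    obtain ⟨g, hg⟩ := hrange _ h1
    refine ⟨g, ?_⟩
    have h2 := Phi_inj ι r ((hφ g).trans hg)
    exact congrArg Prod.fst h2
  -- the kernel
  have hker : ∀ g, φ g = 1 → ((q g).2 ∈ alternatingGroup (Fin r)) := by
    intro g hg
    have h1 := hsign g
    rw [← hφ, hg, Phi_apply, Perm.sign_sumCongr, map_one, Perm.sign_one, one_mul] at h1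
    exact Perm.mem_alternatingGroup.2 h1
  refine ⟨⟨fun g => if h : g ∈ Ce t then φ ⟨g, h⟩ else 1, ?_⟩, ?_⟩
  · refine ⟨?_, ?_, ?_, ?_, ?_, h6, he⟩
    · intro h
      rw [h, orderOf_one] at ht
      exact absurd ht (by norm_num)
    · rw [← pow_two, ← ht, pow_orderOf_eq_one]
    · intro g hg k hk
      rw [dif_pos (mul_mem hg hk), dif_pos hg, dif_pos hk, ← map_mul]
      rfl
    · intro w
      obtain ⟨g, hg⟩ := hsurj w
      refine ⟨g, g.2, ?_⟩
      rw [dif_pos g.2]
      exact hg
    · intro g hg h1
      rw [dif_pos hg] at h1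
      have h2 := hker _ h1
      have h3 := cube hr _ (Perm.mem_alternatingGroup.1 h2)
      have h4 : κ (⟨g, hg⟩ * ⟨g, hg⟩ * ⟨g, hg⟩) = 1 := by
        rw [map_mul, map_mul, ← hφ, h1, ← map_mul, ← map_mul]
        have h5 : ((1 : W ι), (q ⟨g, hg⟩).2) * (1, (q ⟨g, hg⟩).2) * (1, (q ⟨g, hg⟩).2) = 1 := by
          ext1
          · show (1 : W ι) * 1 * 1 = 1
            rw [mul_one, mul_one]
          · exact h3
        rw [h5, map_one]
      have h6 := hκ (h4.trans (map_one κ).symm)
      exact congrArg Subtype.val h6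
  · -- the order
    have h1 : Nat.card φ.ker ∣ Nat.card (alternatingGroup (Fin r)) := by
      let χ : φ.ker →* alternatingGroup (Fin r) :=
        { toFun := fun g => ⟨(q g.1).2, hker g.1 g.2⟩
          map_one' := by
            apply Subtype.ext
            have h1 : q 1 = 1 := Phi_inj ι r (by rw [hq, map_one, map_one])
            show (q 1).2 = 1
            rw [h1]; rfl
          map_mul' := by
            intro g k
            apply Subtype.ext
            have h1 : q (g.1 * k.1) = q g.1 * q k.1 := Phi_inj ι r (by rw [hq, map_mul, map_mul, hq, hq])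
            show (q (g.1 * k.1)).2 = (q g.1).2 * (q k.1).2
            rw [h1]; rfl }
      refine Subgroup.card_dvd_of_injective χ ?_
      rw [injective_iff_map_eq_one]
      intro g hg
      apply Subtype.ext
      apply hκ
      rw [← hφ]
      have h2 : φ g.1 = 1 := g.2
      have h3 : (q g.1).2 = 1 := congrArg Subtype.val hg
      rw [h2, h3]
      show Phi ι r 1 = κ 1
      rw [map_one, map_one]
    have h2 := Subgroup.card_mul_index φ.ker
    rw [Subgroup.index_ker, MonoidHom.range_eq_top.2 hsurj] at h2
    have h3 : Nat.card (⊤ : Subgroup (W ι)) = Nat.card (W ι) := Subgroup.card_top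
    rw [h3] at h2
    rw [← h2]
    exact Nat.mul_dvd_mul (h1.trans (card_alt hr)) dvd_rfl

end

end Cfsg.Agent.H217.Trans
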