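import Cfsg.Agent.H217.Core
import Cfsg.Agent.H217.Match
import Cfsg.Agent.H217.Trans

/-!
# The core of S3218 for `r = 2, 3`, `n ≥ 3`: the 2-central case (helper217)

A finite group `G` without subgroups of index two, with a 2-central involution `t` whose centralizer is isomorphic
to the centralizer in `A_{4n+r}` (`r = 2, 3`, `n ≥ 3`) of a product of `2n` transpositions, is `A_{4n+r}`.
The proof uses the classification (hypotheses `hkn`, `hsch`, `T`).
-/

set_option autoImplicit false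

namespace Cfsg.Agent.H217.Kon23

open Cfsg Subgroup Cfsg.Agent.H217.SP Cfsg.Agent.H217.Red Cfsg.Agent.H217.Pf Cfsg.Agent.H217.Quot
open Cfsg.Agent.LFourA.Quot Cfsg.Agent.H217.Core Cfsg.Agent.H217.Match

universe u

/-- **The case `O(G) = 1`**, with the information that the centralizer has no component. -/
theorem alt_of_sit_comp (T : OrdDiv.OrderTable.{u})
    (hkn : ∀ (X : Type u) [Group X] [Finite X] [IsSimpleGroup X], IsKnownSimple' X)
    (hsch : Schreier.Cases.SchFor.{u} @IsKnownSimple') {X : Type u} [Group X] [Finite X]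
    {ι : Type*} [Fintype ι] [DecidableEq ι] {t : X} {f : X → W ι} (h : Sit t f) (S : Sylow 2 X)
    (hS : (S : Subgroup X) ≤ Ce t) (hdvd : Nat.card (Ce t) ∣ 3 * Nat.card (W ι)) (hO : Cfsg.pPrimeCore 2 X = ⊥)
    (h2 : ∀ φ : X →* ℤˣ, ∀ x, φ x = 1) {n : ℕ} (hn3 : 3 ≤ n) (hn : Fintype.card ι = 2 * n) :
    ∃ m, (m = 4 * n + 2 ∨ m = 4 * n + 3) ∧ ∃ e : X ≃* ↥(alternatingGroup (Fin m)),
      ∀ K : Subgroup ↥(centralizer ({e t} : Set ↥(alternatingGroup (Fin m)))), ¬ IsComponent K := by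
  obtain ⟨N, hN, hNs, hna, htN, hC⟩ := h.simple S hS hO h2
  have hna' : ¬ IsMulCommutative N := fun hc => hna fun a b => hc.is_comm.comm a b
  have hsol : Group.IsSolvable (X ⧸ N) := H403.solvable_quotient N (hsch N hna' (hkn N)) hC
  obtain ⟨j, P, hj⟩ := exists_prof h S hS hdvd h2 htN hC hsol n hn
  obtain ⟨hj0, m, hm, ⟨e⟩⟩ := Ev.prof_alt T P hn3 hna' (hkn N)
  have h3 := index_dvd_out N hC
  rw [card_out_alt hna' (by omega) e] at h3
  have h4 : N.index = 1 := by
    rcases (Nat.dvd_prime Nat.prime_two).1 h3 with h5 | h5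
    · exact h5
    · exfalso
      apply hj hj0
      rw [h5]
  rw [Subgroup.index_eq_one] at h4
  subst h4
  refine ⟨m, hm, Subgroup.topEquiv.symm.trans e, ?_⟩
  intro K hK
  have h5 := Cfsg.Agent.SignalizersComponents.Components.isComponent_map_equiv
    (centCongr e (⟨t, htN⟩ : ↥(⊤ : Subgroup X))).symm (K := K) hK
  exact P.comp _ h5

/-- the unit group of the integers detects subgroups of index two -/
theorem hom_trivial {G : Type*} [Group G] (hG : ∀ H : Subgroup G, H.index ≠ 2) (φ : G →* ℤˣ) (x : G) : φ x = 1 := by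
  by_contra hx
  apply hG φ.ker
  rw [Subgroup.index_ker]
  have h1 : φ.range = ⊤ := by
    rw [eq_top_iff]
    intro u _
    rcases Int.units_eq_one_or u with rfl | rfl
    · exact one_mem _
    · rcases Int.units_eq_one_or (φ x) with h | h
      · exact absurd h hx
      · exact ⟨x, h⟩
  rw [h1, Subgroup.card_top, Nat.card_eq_fintype_card]
  rfl

/-- **core23.** -/
theorem core_of (T : OrdDiv.OrderTable.{u})
    (hkn : ∀ (X : Type u) [Group X] [Finite X] [IsSimpleGroup X], IsKnownSimple' X)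
    (hsch : Schreier.Cases.SchFor.{u} @IsKnownSimple') {G : Type u} [Group G] [Finite G]
    (hG : ∀ H : Subgroup G, H.index ≠ 2) {n r : ℕ} (hn : 3 ≤ n) (hr : r = 2 ∨ r = 3)
    (α : ↥(alternatingGroup (Fin (4 * n + r)))) (hα : orderOf α = 2)
    (hs : (α : Equiv.Perm (Fin (4 * n + r))).support.card = 4 * n)
    (t : G) (ht : orderOf t = 2) (hc : ∃ S : Sylow 2 G, t ∈ (S : Subgroup G) ∧ ∀ x ∈ (S : Subgroup G), x * t = t * x)
    (hiso : Nonempty (↥(centralizer ({t} : Set G)) ≃*
      ↥(centralizer ({α} : Set ↥(alternatingGroup (Fin (4 * n + r))))))) :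
    Nonempty (G ≃* ↥(alternatingGroup (Fin (4 * n + r)))) := by
  classical
  obtain ⟨S, htS, hcS⟩ := hc
  have hS : (S : Subgroup G) ≤ Ce t := fun x hx => mem_Ce.2 (hcS x hx)
  have h2 : ∀ φ : G →* ℤˣ, ∀ x, φ x = 1 := hom_trivial hG
  have hcard : Fintype.card (Fin (2 * n)) = 2 * n := Fintype.card_fin _
  obtain ⟨⟨f, h⟩, hdvd⟩ := Trans.exists_sit (ι := Fin (2 * n)) (m := 4 * n + r) hr (by omega) (by rw [hcard]; exact even_two_mul n)
    (by omega) α hα (by omega) t ht hiso
  obtain ⟨⟨f', h'⟩, hdvd'⟩ := sit_quot h S htS hdvd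
  have hS' : (syl S : Subgroup (G ⧸ Cfsg.oddCore G)) ≤ Ce (pr G t) := by
    rw [syl_coe]
    rintro _ ⟨s, hs, rfl⟩
    have h1 := (mem_Ce).1 (hS hs)
    rw [mem_Ce, ← map_mul, h1, map_mul]
  obtain ⟨m', hm', e, he⟩ := alt_of_sit_comp T hkn hsch h' (syl S) hS' hdvd' oddCore_quot (hom_quot h2) hn hcard
  obtain ⟨g⟩ := hiso
  -- the core is trivial
  have hO : Cfsg.oddCore G = ⊥ := by
    refine Fin.finish_gen (m := 4 * n + r) (m' := m') (by omega) (by omega) (by omega) α hα t ht g (Cfsg.oddCore G)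
      Cfsg.Agent.H313.Red.oddCore_odd (e.toMonoidHom.comp (QuotientGroup.mk' (Cfsg.oddCore G)))
      (e.surjective.comp (QuotientGroup.mk'_surjective _)) ?_
    ext x
    rw [MonoidHom.mem_ker, MonoidHom.comp_apply]
    change e (x : G ⧸ Cfsg.oddCore G) = 1 ↔ _
    rw [map_eq_one_iff e e.injective, QuotientGroup.eq_one_iff]
  let E : G ≃* G ⧸ Cfsg.oddCore G :=
    MulEquiv.ofBijective (QuotientGroup.mk' (Cfsg.oddCore G)) ⟨by
      rw [← MonoidHom.ker_eq_bot_iff, QuotientGroup.ker_mk', hO], QuotientGroup.mk'_surjective _⟩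
  have hEt : E t = pr G t := rfl
  have h7 := match_deg hr hm' α hα hs (e (pr G t)) (by
    rw [← hEt]
    have := orderOf_injective (E.trans e).toMonoidHom (E.trans e).injective t
    rw [ht] at this
    exact this) he (by
      rw [← Nat.card_congr (centCongr e (pr G t)).toEquiv, ← hEt, ← Nat.card_congr (centCongr E t).toEquiv]
      exact Nat.card_congr g.toEquiv)
  subst h7
  exact ⟨E.trans e⟩

end Cfsg.Agent.H217.Kon23
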