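import Cfsg.Agent.H217.Kon23
import Cfsg.Agent.OrdDiv.Table
import Cfsg.Agent.Schreier.Assembly
import Cfsg.Agent.S0000

/-!
# `core23` for S3218: the 2-central case, `r = 2, 3`, `n ≥ 3` (helper217)
-/

set_option autoImplicit false

namespace Cfsg.Agent.H217

/-- A finite group without subgroups of index two, with a 2-central involution whose centralizer is isomorphic to
the centralizer in `A_{4n+r}` (`r = 2, 3`, `n ≥ 3`) of a product of `2n` transpositions, is `A_{4n+r}`. -/
theorem core23' {G : Type*} [Group G] [Finite G]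
    (hG : ∀ H : Subgroup G, H.index ≠ 2) {n r : ℕ} (hn : 3 ≤ n) (hr : r = 2 ∨ r = 3)
    (α : ↥(alternatingGroup (Fin (4 * n + r)))) (hα : orderOf α = 2)
    (hs : (α : Equiv.Perm (Fin (4 * n + r))).support.card = 4 * n)
    (t : G) (ht : orderOf t = 2) (hc : ∃ S : Sylow 2 G, t ∈ (S : Subgroup G) ∧ ∀ x ∈ (S : Subgroup G), x * t = t * x)
    (hiso : Nonempty (↥(Subgroup.centralizer ({t} : Set G)) ≃*
      ↥(Subgroup.centralizer ({α} : Set ↥(alternatingGroup (Fin (4 * n + r))))))) :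
    Nonempty (G ≃* ↥(alternatingGroup (Fin (4 * n + r)))) :=
  Kon23.core_of OrdDiv.table (fun _ _ _ _ => Cfsg.Agent.S0000.result) Schreier.Assembly.known hG hn hr α hα hs t ht
    hc hiso

/-- the quotient by the odd core -/
theorem core23 {G : Type*} [Group G] [Finite G]
    (hG : ∀ H : Subgroup G, H.index ≠ 2) {n r : ℕ} (hn : 3 ≤ n) (hr : r = 2 ∨ r = 3)
    (α : ↥(alternatingGroup (Fin (4 * n + r)))) (hα : orderOf α = 2)
    (hs : (α : Equiv.Perm (Fin (4 * n + r))).support.card = 4 * n)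
    (t : G) (ht : orderOf t = 2) (hc : ∃ S : Sylow 2 G, t ∈ (S : Subgroup G) ∧ ∀ x ∈ (S : Subgroup G), x * t = t * x)
    (hiso : Nonempty (↥(Subgroup.centralizer ({t} : Set G)) ≃*
      ↥(Subgroup.centralizer ({α} : Set ↥(alternatingGroup (Fin (4 * n + r))))))) :
    Nonempty ((G ⧸ Cfsg.oddCore G) ≃* ↥(alternatingGroup (Fin (4 * n + r)))) := by
  obtain ⟨e⟩ := core23' hG hn hr α hα hs t ht hc hiso
  have hsimp : IsSimpleGroup ↥(alternatingGroup (Fin (4 * n + r))) :=
    alternatingGroup.isSimpleGroup (by rw [Nat.card_fin]; omega)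
  have hGs : IsSimpleGroup G := e.isSimpleGroup
  have hnorm : (Cfsg.oddCore G).Normal := Cfsg.Agent.Lib.Cores.pPrimeCore_normal 2
  have hodd : Odd (Nat.card (Cfsg.oddCore G)) := Cfsg.Agent.H313.Red.oddCore_odd
  have hO : Cfsg.oddCore G = ⊥ := by
    rcases hnorm.eq_bot_or_eq_top with h | h
    · exact h
    · exfalso
      rw [h, Subgroup.card_top] at hodd
      have h1 : orderOf t ∣ Nat.card G := orderOf_dvd_natCard t
      rw [ht] at h1
      exact (Nat.not_even_iff_odd.2 hodd) (even_iff_two_dvd.2 h1)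
  let E : G ≃* G ⧸ Cfsg.oddCore G :=
    MulEquiv.ofBijective (QuotientGroup.mk' (Cfsg.oddCore G)) ⟨by
      rw [← MonoidHom.ker_eq_bot_iff, QuotientGroup.ker_mk', hO], QuotientGroup.mk'_surjective _⟩
  exact ⟨E.symm.trans e⟩

end Cfsg.Agent.H217
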