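import Cfsg.Agent.H217.Match

/-!
# Matching the degree for all `n ≥ 2` (helper217, for S3218)
-/

set_option autoImplicit false

namespace Cfsg.Agent.H217.Match

open Subgroup Equiv Equiv.Perm Cfsg Cfsg.Agent.SignalizersComponents.Components

section comp
variable {α : Type} [Fintype α] [DecidableEq α]

/-- no component if at most four points are fixed -/
theorem no_comp_of_fix (t : ↥(alternatingGroup α)) (ht : t * t = 1)
    (h4 : Fintype.card {x // (t : Perm α) x = x} ≤ 4)
    (K : Subgroup ↥(centralizer ({t} : Set ↥(alternatingGroup α)))) : ¬ IsComponent K := by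
  intro hK
  have hs : ∀ i, (t : Perm α) ((t : Perm α) i) = i := by
    intro i
    have := congrArg (fun p : ↥(alternatingGroup α) => (p : Perm α) i) ht
    exact this
  revert hK K
  rw [cent_eq]
  intro K hK
  have h1 := H284.AltComp.le_ker hs hK
  have h2 : Group.IsSolvable (Perm (H284.AltComp.Fx (t : Perm α))) := H284.AltComp.solvable_perm_four h4
  have h3 : Group.IsSolvable ↥(alternatingGroup (H284.AltComp.Fx (t : Perm α))) :=
    Group.isSolvable_of_isSolvable_injective (f := (alternatingGroup (H284.AltComp.Fx (t : Perm α))).subtype)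
      Subtype.val_injective
  have h5 : Group.IsSolvable ↥(H284.AltComp.rho (t : Perm α)).ker :=
    Group.isSolvable_of_isSolvable_injective (f := (H284.AltComp.kerEquiv (t : Perm α)).symm.toMonoidHom)
      (H284.AltComp.kerEquiv (t : Perm α)).symm.injective
  exact quasisimple_not_isSolvable hK.2
    (Group.isSolvable_of_isSolvable_injective (f := Subgroup.inclusion h1) (Subgroup.inclusion_injective h1))

end comp

/-- **The quotient by the odd core determines the group.** -/
theorem match_main {G : Type*} [Group G] [Finite G] {n r m' : ℕ} (hn : 2 ≤ n) (hr : r = 2 ∨ r = 3)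
    (hm' : m' = 4 * n + 2 ∨ m' = 4 * n + 3)
    (α : ↥(alternatingGroup (Fin (4 * n + r)))) (hα : orderOf α = 2)
    (hs : (α : Perm (Fin (4 * n + r))).support.card = 4 * n) (z : G) (hz : orderOf z = 2)
    (g : ↥(centralizer ({z} : Set G)) ≃* ↥(centralizer ({α} : Set ↥(alternatingGroup (Fin (4 * n + r))))))
    (e : (G ⧸ Cfsg.oddCore G) ≃* ↥(alternatingGroup (Fin m'))) :
    Nonempty (G ≃* ↥(alternatingGroup (Fin (4 * n + r)))) := by
  have hα1 : α * α = 1 := by rw [← pow_two, ← hα, pow_orderOf_eq_one]
  have hfix := H313.AltCard.card_fix (α : Perm (Fin (4 * n + r)))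
  rw [Fintype.card_fin] at hfix
  -- the core is trivial
  have hO : Cfsg.oddCore G = ⊥ := by
    refine Fin.finish_gen (m := 4 * n + r) (m' := m') (by omega) (by omega) (by omega) α hα z hz g (Cfsg.oddCore G)
      Cfsg.Agent.H313.Red.oddCore_odd (e.toMonoidHom.comp (QuotientGroup.mk' (Cfsg.oddCore G)))
      (e.surjective.comp (QuotientGroup.mk'_surjective _)) ?_
    ext x
    rw [MonoidHom.mem_ker, MonoidHom.comp_apply]
    change e (x : G ⧸ Cfsg.oddCore G) = 1 ↔ _
    rw [map_eq_one_iff e e.injective, QuotientGroup.eq_one_iff]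
  let E : G ≃* G ⧸ Cfsg.oddCore G :=
    MulEquiv.ofBijective (QuotientGroup.mk' (Cfsg.oddCore G)) ⟨by
      rw [← MonoidHom.ker_eq_bot_iff, QuotientGroup.ker_mk', hO], QuotientGroup.mk'_surjective _⟩
  let E' : G ≃* ↥(alternatingGroup (Fin m')) := E.trans e
  have h7 := match_deg hr hm' α hα hs (E' z) (by
    have := orderOf_injective E'.toMonoidHom E'.injective z
    rw [hz] at this
    exact this) (by
    intro K hK
    exact no_comp_of_fix α hα1 (by omega) _
      (isComponent_map_equiv ((centCongr E' z).symm.trans g) hK)) (by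
    rw [← Nat.card_congr (centCongr E' z).toEquiv]
    exact Nat.card_congr g.toEquiv)
  subst h7
  exact ⟨E'⟩

/-- **The quotient by the odd core determines the group** (disjunctive form). -/
theorem match_or {G : Type*} [Group G] [Finite G] {n r : ℕ} (hn : 2 ≤ n) (hr : r = 2 ∨ r = 3)
    (α : ↥(alternatingGroup (Fin (4 * n + r)))) (hα : orderOf α = 2)
    (hs : (α : Perm (Fin (4 * n + r))).support.card = 4 * n) (z : G) (hz : orderOf z = 2)
    (g : ↥(centralizer ({z} : Set G)) ≃* ↥(centralizer ({α} : Set ↥(alternatingGroup (Fin (4 * n + r))))))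
    (h : Nonempty ((G ⧸ Cfsg.oddCore G) ≃* ↥(alternatingGroup (Fin (4 * n + 2)))) ∨
      Nonempty ((G ⧸ Cfsg.oddCore G) ≃* ↥(alternatingGroup (Fin (4 * n + 3))))) :
    Nonempty (G ≃* ↥(alternatingGroup (Fin (4 * n + r)))) := by
  rcases h with ⟨⟨e⟩⟩ | ⟨⟨e⟩⟩
  · exact match_main hn hr (Or.inl rfl) α hα hs z hz g e
  · exact match_main hn hr (Or.inr rfl) α hα hs z hz g e

end Cfsg.Agent.H217.Match
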